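import Groth.Agent.WittExt.Chart

/-!
# Extensions between Witt groups and the additive group
-/

set_option autoImplicit false
set_option maxSynthPendingDepth 3
universe u

noncomputable section

open CategoryTheory CategoryTheory.Limits MonoidalCategory CartesianMonoidalCategory MonObj AlgebraicGeometry

namespace Groth.Agent.WittExt

open Groth.Agent.WittHom
open Groth.Agent.WittSub (LowZero)

variable {p : ℕ} [hp : Fact p.Prime] {k : Type u} [Field k] {n m l : ℕ}

theorem exists_mor (φ : TW p n k → TW p m k) (hφ : IsPoly φ) :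
    ∃ f : WittGrp.W p n (Spec (CommRingCat.of k)) ⟶ WittGrp.W p m (Spec (CommRingCat.of k)),
      ∀ v, act f v = φ v := by
  obtain ⟨G, hG⟩ := hφ
  exact ⟨ofPoly fun i => G.coeff i, fun v => TruncatedWittVector.ext fun i => by
    rw [act, crd_val_comp_ofPoly, val_pt, hG, evMap, WittGrp.coeff_truncMap]⟩

theorem truncate_shift_eq_zero (h : n ≤ l) (h' : m ≤ l) (hnm : m + n ≤ l) (x : TW p n k) :
    TruncatedWittVector.truncate h' (WittGrp.shift p h x) = 0 :=
  (lowZero_iff_truncate h' _).1 fun i hi => by rw [WittGrp.coeff_shift, dif_neg (by omega)]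

variable [CharP k p] [IsAlgClosed k]

theorem emb_c0 (t : TW p 1 k) : emb n (c0 t) = WittGrp.shift p (Nat.le_add_left 1 n) t := by
  rw [emb]
  congr 1
  exact TruncatedWittVector.ext fun i => by rw [TruncatedWittVector.coeff_mk, Fin.fin_one_eq_zero i]; rfl

/-- Lifting endomorphisms of the first component. -/
theorem exists_lift_one {ψ : TW p 1 k →+ TW p 1 k} (hψ : Std 1 ψ) : ∀ n : ℕ,
    ∃ Φ : TW p (n + 1) k →+ TW p (n + 1) k, Std (n + 1) Φ ∧ ∀ v,
      TruncatedWittVector.truncate (Nat.le_add_left 1 n) (Φ v) =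
        ψ (TruncatedWittVector.truncate (Nat.le_add_left 1 n) v)
  | 0 => ⟨ψ, hψ, fun v => by
      have h : ∀ w : TW p (0 + 1) k, TruncatedWittVector.truncate (Nat.le_add_left 1 0) w = w := fun w =>
        TruncatedWittVector.ext fun i => by rw [TruncatedWittVector.coeff_truncate]; rfl
      rw [h, h]⟩
  | n + 1 => by
    obtain ⟨Φ, hΦ, e⟩ := exists_lift_one hψ n
    obtain ⟨Φ', hΦ', e'⟩ := hΦ.lift_R
    refine ⟨Φ', hΦ', fun v => ?_⟩
    have h : ∀ w : TW p (n + 1 + 1) k, TruncatedWittVector.truncate (Nat.le_add_left 1 (n + 1)) w =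
        TruncatedWittVector.truncate (Nat.le_add_left 1 n) (TruncatedWittVector.truncate (Nat.le_succ (n + 1)) w) :=
      fun w => TruncatedWittVector.ext fun i => by simp only [TruncatedWittVector.coeff_truncate]; rfl
    rw [h, h, e', e]

/-- Endomorphisms of the bottom layer. -/
theorem exists_extend_bottom (φ : TW p 1 k →+ TW p 1 k) (hφ : IsPoly φ) (n : ℕ) :
    ∃ Φ : TW p (n + 1) k →+ TW p (n + 1) k, Std (n + 1) Φ ∧ ∀ t,
      Φ (WittGrp.shift p (Nat.le_add_left 1 n) t) = WittGrp.shift p (Nat.le_add_left 1 n) (φ t) := by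
  obtain ⟨N, a, ha⟩ := exists_bottom (n := 0) φ hφ
  obtain ⟨Φ, hΦ, e⟩ := exists_std_bottom (p := p) n N a
  refine ⟨Φ, hΦ, fun t => ?_⟩
  have h0 : ∀ u : TW p (0 + 1) k, emb 0 (c0 u) = u := fun u =>
    emb_coeff fun i hi => absurd hi (Nat.not_lt_zero _)
  have h := ha (c0 t)
  rw [h0] at h
  rw [← emb_c0, e, h, ← emb_c0]
  congr 1

namespace Chart

variable {G : Over (Spec (CommRingCat.of k))} [GrpObj G] [IsCommMonObj G]
  {π : G ⟶ WittGrp.W p n (Spec (CommRingCat.of k))} {i : WittGrp.W p m (Spec (CommRingCat.of k)) ⟶ G}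
  [IsMonHom π] [IsMonHom i] (K : Chart π i)

include K in
theorem hom_ext_out {H : Over (Spec (CommRingCat.of k))} [GrpObj H] (f f' : G ⟶ H) [IsMonHom f] [IsMonHom f']
    (h1 : i ≫ f = i ≫ f') (h2 : K.s ≫ f = K.s ≫ f') : f = f' := by
  have e : 𝟙 G = (K.r ≫ i) * (π ≫ K.s) := by
    rw [← Category.id_comp K.r, K.comp_r_comp, Category.id_comp, inv_mul_cancel_right]
  rw [← Category.id_comp f, ← Category.id_comp f', e, MonObj.mul_comp, MonObj.mul_comp, Category.assoc,
    Category.assoc, Category.assoc, Category.assoc, h1, h2]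

theorem act_s_comp_π (v : TW p n k) (f : WittGrp.W p n (Spec (CommRingCat.of k)) ⟶ WittGrp.W p l (Spec (CommRingCat.of k))) :
    act ((K.s ≫ π) ≫ f) v = act f v := by rw [K.sect, Category.id_comp]

end Chart

open Chart

variable {G : Over (Spec (CommRingCat.of k))} [GrpObj G] [IsCommMonObj G]

theorem pushout_class
    {π : G ⟶ WittGrp.W p (n + 1) (Spec (CommRingCat.of k))} {i : WittGrp.W p 1 (Spec (CommRingCat.of k)) ⟶ G}
    [IsMonHom π] [IsMonHom i] (K : Chart π i) :
    ∃! φ : WittGrp.W p 1 (Spec (CommRingCat.of k)) ⟶ WittGrp.W p 1 (Spec (CommRingCat.of k)), IsMonHom φ ∧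
      ∃ g : WittGrp.W p (n + 1 + 1) (Spec (CommRingCat.of k)) ⟶ G, IsMonHom g ∧
        WittGrp.V p (Spec (CommRingCat.of k)) (Nat.le_add_left 1 (n + 1)) ≫ g = φ ≫ i ∧
        g ≫ π = WittGrp.R p (Spec (CommRingCat.of k)) (Nat.le_add_right (n + 1) 1) := by
  haveI := IsAlgClosed.instInfinite (K := k)
  haveI := K.mono
  have hVR : WittGrp.V p (Spec (CommRingCat.of k)) (Nat.le_add_left 1 (n + 1)) ≫
      WittGrp.R p (Spec (CommRingCat.of k)) (Nat.le_add_right (n + 1) 1) = 1 := hom_ext fun v => by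
    rw [act_comp, act_V, act_R, truncate_shift_eq_zero _ _ le_rfl, act_one]
  have hex : ∃ φ : WittGrp.W p 1 (Spec (CommRingCat.of k)) ⟶ WittGrp.W p 1 (Spec (CommRingCat.of k)), IsMonHom φ ∧
      ∃ g : WittGrp.W p (n + 1 + 1) (Spec (CommRingCat.of k)) ⟶ G, IsMonHom g ∧
        WittGrp.V p (Spec (CommRingCat.of k)) (Nat.le_add_left 1 (n + 1)) ≫ g = φ ≫ i ∧
        g ≫ π = WittGrp.R p (Spec (CommRingCat.of k)) (Nat.le_add_right (n + 1) 1) := by
    obtain ⟨φ, hφ, B, hB, hB0, e⟩ := exists_class1 n K.c K.isCoc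
    obtain ⟨φm, hφm, hφa⟩ := exists_hom φ hφ (map_add φ)
    obtain ⟨g₀, hg₀⟩ := exists_mor
      (fun v : TW p (n + 1 + 1) k => φ (tb (n + 1) v) - B (TruncatedWittVector.truncate (Nat.le_succ (n + 1)) v))
      ((hφ.comp isPoly_tb).sub (hB.comp (isPoly_id.truncate (Nat.le_succ (n + 1)))))
    obtain ⟨g, hgm, hgπ, hga⟩ := K.exists_hom_in g₀
      (WittGrp.R p (Spec (CommRingCat.of k)) (Nat.le_add_right (n + 1) 1)) fun x y => by
        simp only [hg₀, act_R]
        rw [e, tb_add, map_add φ, map_add φ, map_add (TruncatedWittVector.truncate (Nat.le_succ (n + 1)))]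
        simp only [dd]
        abel
    refine ⟨φm, hφm, g, hgm, ?_, hgπ⟩
    rw [hga _ hVR]
    congr 1
    refine hom_ext fun v => ?_
    rw [act_comp, act_V, hg₀, hφa, truncate_shift_eq_zero (n := 1) (m := n + 1) (l := n + 1 + 1) _ _ (by omega), hB0, sub_zero]
    congr 1
    have h := tb_add_shift (pad (n + 1 + 1) (0 : TW p (n + 1) k)) v
    rwa [tb_pad, zero_add, pad_zero, zero_add] at h
  obtain ⟨φ, hφ, g, hg, hgV, hgπ⟩ := hex
  refine ⟨φ, ⟨hφ, g, hg, hgV, hgπ⟩, ?_⟩
  rintro φ' ⟨hφ', g', hg', hgV', hgπ'⟩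
  have hV : ∀ (ψ : WittGrp.W p 1 (Spec (CommRingCat.of k)) ⟶ WittGrp.W p 1 (Spec (CommRingCat.of k)))
      (f : WittGrp.W p (n + 1 + 1) (Spec (CommRingCat.of k)) ⟶ G),
      WittGrp.V p (Spec (CommRingCat.of k)) (Nat.le_add_left 1 (n + 1)) ≫ f = ψ ≫ i →
      ∀ v, act ψ v = act (f ≫ K.r) (WittGrp.shift p (Nat.le_add_left 1 (n + 1)) v) := fun ψ f hf v => by
    rw [← act_V, ← act_comp, ← Category.assoc, hf, Category.assoc, K.i_r, Category.comp_id]
  let D : TW p (n + 1 + 1) k →+ TW p 1 k := AddMonoidHom.mk'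
    (fun v => act (g' ≫ K.r) v - act (g ≫ K.r) v) fun x y => by
      rw [K.act_hom_in g' x y, K.act_hom_in g x y, hgπ, hgπ']
      abel
  refine hom_ext fun v => ?_
  rw [hV φ' g' hgV', hV φ g hgV, ← sub_eq_zero]
  show D _ = 0
  rw [map_eq_of_truncate D (Nat.le_add_left 1 (n + 1)) le_rfl, truncate_shift_eq_zero _ _ (by omega), pad_zero,
    map_zero]

theorem pullback_class (hn : 1 ≤ n)
    {π : G ⟶ WittGrp.W p 1 (Spec (CommRingCat.of k))} {i : WittGrp.W p n (Spec (CommRingCat.of k)) ⟶ G}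
    [IsMonHom π] [IsMonHom i] (K : Chart π i) :
    ∃! ψ : WittGrp.W p 1 (Spec (CommRingCat.of k)) ⟶ WittGrp.W p 1 (Spec (CommRingCat.of k)), IsMonHom ψ ∧
      ∃ h : G ⟶ WittGrp.W p (n + 1) (Spec (CommRingCat.of k)), IsMonHom h ∧
        i ≫ h = WittGrp.V p (Spec (CommRingCat.of k)) (Nat.le_add_right n 1) ∧
        h ≫ WittGrp.R p (Spec (CommRingCat.of k)) (Nat.le_add_left 1 n) = π ≫ ψ := by
  haveI := IsAlgClosed.instInfinite (K := k)
  have hiπ : i ≫ π = 1 := by simpa using K.i_comp_π (𝟙 _)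
  have hex : ∃ ψ : WittGrp.W p 1 (Spec (CommRingCat.of k)) ⟶ WittGrp.W p 1 (Spec (CommRingCat.of k)), IsMonHom ψ ∧
      ∃ h : G ⟶ WittGrp.W p (n + 1) (Spec (CommRingCat.of k)), IsMonHom h ∧
        i ≫ h = WittGrp.V p (Spec (CommRingCat.of k)) (Nat.le_add_right n 1) ∧
        h ≫ WittGrp.R p (Spec (CommRingCat.of k)) (Nat.le_add_left 1 n) = π ≫ ψ := by
    obtain ⟨ψ, hψ, B, hB, hB0, e⟩ := exists_class2 n K.c K.isCoc
    obtain ⟨ψm, hψm, hψa⟩ := exists_hom ψ hψ (map_add ψ)
    obtain ⟨B', hB'⟩ := exists_mor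
      (fun v : TW p 1 k => pad (n + 1) (ψ v) + WittGrp.shift p (Nat.le_succ n) (B v))
      ((isPoly_pad.comp hψ).add (hB.shift _))
    obtain ⟨h, hh, hi, hs⟩ := K.exists_hom_out (WittGrp.V p (Spec (CommRingCat.of k)) (Nat.le_add_right n 1)) B'
      fun x y => by
        simp only [act_V, hB', e, dd, map_add (WittGrp.shift (R := k) p (Nat.le_add_right n 1)),
          map_add (WittGrp.shift (R := k) p (Nat.le_succ n)), map_sub (WittGrp.shift (R := k) p (Nat.le_add_right n 1)), map_add ψ]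
        rw [show WittGrp.shift p (Nat.le_add_right n 1) (zz n (ψ x) (ψ y)) = _ from shift_zz (ψ x) (ψ y)]
        abel
    haveI := hh
    haveI := hψm
    refine ⟨ψm, hψm, h, hh, hi, K.hom_ext_out _ _ ?_ ?_⟩
    · rw [← Category.assoc, hi, ← Category.assoc, hiπ, MonObj.one_comp]
      exact hom_ext fun v => by rw [act_comp, act_V, act_R, truncate_shift_eq_zero _ _ (by omega), act_one]
    · rw [← Category.assoc, hs, ← Category.assoc, K.sect, Category.id_comp]
      refine hom_ext fun v => ?_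
      rw [act_comp, act_R, hB', hψa, map_add, truncate_pad, truncate_shift_eq_zero _ _ (by omega), add_zero]
  obtain ⟨ψ, hψ, h, hh, hi, hR⟩ := hex
  refine ⟨ψ, ⟨hψ, h, hh, hi, hR⟩, ?_⟩
  rintro ψ' ⟨hψ', h', hh', hi', hR'⟩
  have hψs : ∀ (χ : WittGrp.W p 1 (Spec (CommRingCat.of k)) ⟶ WittGrp.W p 1 (Spec (CommRingCat.of k)))
      (f : G ⟶ WittGrp.W p (n + 1) (Spec (CommRingCat.of k))),
      f ≫ WittGrp.R p (Spec (CommRingCat.of k)) (Nat.le_add_left 1 n) = π ≫ χ →
      ∀ v, act χ v = TruncatedWittVector.truncate (Nat.le_add_left 1 n) (act (K.s ≫ f) v) := fun χ f hf v => by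
    rw [← act_R, ← act_comp, Category.assoc, hf, ← Category.assoc, K.act_s_comp_π]
  let D : TW p 1 k →+ TW p (n + 1) k := AddMonoidHom.mk'
    (fun v => act (K.s ≫ h') v - act (K.s ≫ h) v) fun x y => by
      haveI := hh
      haveI := hh'
      have e1 := K.act_hom_out h x y
      have e2 := K.act_hom_out h' x y
      rw [hi] at e1
      rw [hi'] at e2
      rw [eq_sub_of_add_eq' e1.symm, eq_sub_of_add_eq' e2.symm]
      abel
  refine hom_ext fun v => ?_
  rw [hψs ψ' h' hR', hψs ψ h hR, ← sub_eq_zero, ← map_sub]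
  exact (lowZero_iff_truncate _ _).1 fun j hj =>
    lowZero_of_comp D (le_refl 1) v j (by omega)

theorem pullback_of_class (hnm : n + 1 ≤ m)
    {π : G ⟶ WittGrp.W p (n + 1) (Spec (CommRingCat.of k))} {i : WittGrp.W p 1 (Spec (CommRingCat.of k)) ⟶ G}
    [IsMonHom π] [IsMonHom i] (K : Chart π i) :
    ∃ f : WittGrp.W p (n + 1) (Spec (CommRingCat.of k)) ⟶ WittGrp.W p m (Spec (CommRingCat.of k)), IsMonHom f ∧
      ∃ h : G ⟶ WittGrp.W p (m + 1) (Spec (CommRingCat.of k)), IsMonHom h ∧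
        i ≫ h = WittGrp.V p (Spec (CommRingCat.of k)) (Nat.le_add_left 1 m) ∧
        h ≫ WittGrp.R p (Spec (CommRingCat.of k)) (Nat.le_add_right m 1) = π ≫ f := by
  haveI := IsAlgClosed.instInfinite (K := k)
  have hiπ : i ≫ π = 1 := by simpa using K.i_comp_π (𝟙 _)
  obtain ⟨φ, hφ, B, hB, hB0, e⟩ := exists_class1 n K.c K.isCoc
  obtain ⟨Φ, hΦ, hΦe⟩ := exists_extend_bottom φ hφ (n + 1)
  have hle : n + 1 + 1 ≤ m + 1 := by omega
  let Bh : TW p (n + 1) k → TW p (m + 1) k := fun x =>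
    WittGrp.shift p hle (Φ (pad (n + 1 + 1) x)) + WittGrp.shift p (Nat.le_add_left 1 m) (B x)
  have hBh : IsPoly Bh := ((hΦ.isPoly.comp isPoly_pad).shift hle).add (hB.shift _)
  have hsh : ∀ t : TW p 1 k, WittGrp.shift p hle (WittGrp.shift p (Nat.le_add_left 1 (n + 1)) t) =
      WittGrp.shift p (Nat.le_add_left 1 m) t := fun t => by
    refine TruncatedWittVector.ext fun j => ?_
    simp only [WittGrp.coeff_shift]
    split_ifs <;> first | rfl | omega | (congr 1; ext; simp only; omega)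
  have hdd : ∀ x y, WittGrp.shift p (Nat.le_add_left 1 m) (K.c x y) + Bh (x + y) = Bh x + Bh y := fun x y => by
    have h : pad (n + 1 + 1) x + pad (n + 1 + 1) y =
        pad (n + 1 + 1) (x + y) + WittGrp.shift p (Nat.le_add_left 1 (n + 1)) (zc x y) := by
      rw [zc, shift_tb, top, map_add, truncate_pad, truncate_pad, add_sub_cancel]
    have h' := congrArg (fun w => WittGrp.shift p hle (Φ w)) h
    simp only [map_add Φ, map_add (WittGrp.shift (R := k) p hle), hΦe, hsh] at h'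
    simp only [Bh, e, dd, map_add (WittGrp.shift (R := k) p (Nat.le_add_left 1 m)), map_sub (WittGrp.shift (R := k) p (Nat.le_add_left 1 m))]
    linear_combination (norm := abel) -h'
  obtain ⟨B', hB'⟩ := exists_mor Bh hBh
  obtain ⟨h, hh, hi, hs⟩ := K.exists_hom_out (WittGrp.V p (Spec (CommRingCat.of k)) (Nat.le_add_left 1 m)) B'
    fun x y => by simp only [act_V, hB', hdd]
  obtain ⟨f, hf, hfa⟩ := exists_hom (fun x => TruncatedWittVector.truncate (Nat.le_add_right m 1) (Bh x))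
    (hBh.truncate _) fun x y => by
      have key : ∀ a b c : TW p (m + 1) k, TruncatedWittVector.truncate (Nat.le_add_right m 1) c = 0 → c + a = b →
          TruncatedWittVector.truncate (Nat.le_add_right m 1) a = TruncatedWittVector.truncate (Nat.le_add_right m 1) b :=
        fun a b c hc he => by rw [← he, map_add, hc, zero_add]
      exact (key _ _ _ (truncate_shift_eq_zero (n := 1) (m := m) (l := m + 1) _ _ le_rfl _) (hdd x y)).trans
        (map_add (TruncatedWittVector.truncate (Nat.le_add_right m 1)) _ _)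
  haveI := hh
  haveI := hf
  refine ⟨f, hf, h, hh, hi, K.hom_ext_out _ _ ?_ ?_⟩
  · rw [← Category.assoc, hi, ← Category.assoc, hiπ, MonObj.one_comp]
    exact hom_ext fun v => by rw [act_comp, act_V, act_R, truncate_shift_eq_zero _ _ le_rfl, act_one]
  · rw [← Category.assoc, hs, ← Category.assoc, K.sect, Category.id_comp]
    exact hom_ext fun v => by rw [act_comp, act_R, hB', hfa]

theorem pushout_of_class (hnm : n ≤ m)
    {π : G ⟶ WittGrp.W p 1 (Spec (CommRingCat.of k))} {i : WittGrp.W p n (Spec (CommRingCat.of k)) ⟶ G}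
    [IsMonHom π] [IsMonHom i] (K : Chart π i) :
    ∃ g : WittGrp.W p m (Spec (CommRingCat.of k)) ⟶ WittGrp.W p n (Spec (CommRingCat.of k)), IsMonHom g ∧
      ∃ h : WittGrp.W p (m + 1) (Spec (CommRingCat.of k)) ⟶ G, IsMonHom h ∧
        WittGrp.V p (Spec (CommRingCat.of k)) (Nat.le_add_right m 1) ≫ h = g ≫ i ∧
        h ≫ π = WittGrp.R p (Spec (CommRingCat.of k)) (Nat.le_add_left 1 m) := by
  haveI := IsAlgClosed.instInfinite (K := k)
  obtain ⟨ψ, hψ, B, hB, hB0, e⟩ := exists_class2 n K.c K.isCoc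
  obtain ⟨Φ, hΦ, hΦe⟩ := exists_lift_one (std_of_endo 1 ψ hψ) n
  have hle : n + 1 ≤ m + 1 := by omega
  let t₁ := TruncatedWittVector.truncate (p := p) (R := k) (Nat.le_add_left 1 m)
  let tn := TruncatedWittVector.truncate (p := p) (R := k) hle
  let w : TW p (m + 1) k → TW p (n + 1) k := fun v => Φ (tn v) - pad (n + 1) (ψ (t₁ v))
  have hw : ∀ v, LowZero (n + 1 - n) (w v) := fun v => by
    rw [Nat.add_sub_cancel_left, lowZero_iff_truncate (Nat.le_add_left 1 n)]
    simp only [w, map_sub, hΦe, truncate_pad, tn, TruncatedWittVector.truncate_truncate]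
    exact sub_self _
  let Z : TW p (m + 1) k → TW p n k := fun v => tail (Nat.le_succ n) (w v)
  have hZ : ∀ v, WittGrp.shift p (Nat.le_succ n) (Z v) = w v := fun v => shift_tail _ (hw v)
  let G₀ : TW p (m + 1) k → TW p n k := fun v => Z v - B (t₁ v)
  have ht₁ : IsPoly (t₁ : TW p (m + 1) k → TW p 1 k) := isPoly_id.truncate (Nat.le_add_left 1 m)
  have htn : IsPoly (tn : TW p (m + 1) k → TW p (n + 1) k) := isPoly_id.truncate hle
  have hG₀ : IsPoly G₀ :=
    ((isPoly_tail _).comp ((hΦ.isPoly.comp htn).sub (isPoly_pad.comp (hψ.comp ht₁)))).sub (hB.comp ht₁)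
  have hadd : ∀ x y, G₀ (x + y) = G₀ x + G₀ y + K.c (t₁ x) (t₁ y) := fun x y => by
    have h : Z (x + y) = Z x + Z y + zz n (ψ (t₁ x)) (ψ (t₁ y)) := shift_injective (Nat.le_succ n) (by
      simp only [map_add (WittGrp.shift (R := k) p _), hZ, shift_zz]
      simp only [w, map_add tn, map_add t₁, map_add Φ, map_add ψ]
      abel)
    simp only [G₀, h, e, dd, map_add t₁]
    abel
  obtain ⟨g₀, hg₀⟩ := exists_mor G₀ hG₀
  obtain ⟨h, hh, hhπ, hha⟩ := K.exists_hom_in g₀ (WittGrp.R p (Spec (CommRingCat.of k)) (Nat.le_add_left 1 m))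
    fun x y => by simp only [hg₀, act_R]; exact hadd x y
  obtain ⟨g, hg, hga⟩ := exists_hom (fun v : TW p m k => G₀ (WittGrp.shift p (Nat.le_add_right m 1) v))
    (hG₀.comp (isPoly_id.shift _)) fun x y => by
      have hz : ∀ v : TW p m k, t₁ (WittGrp.shift p (Nat.le_add_right m 1) v) = 0 := fun v =>
        truncate_shift_eq_zero _ _ (by omega) v
      rw [map_add, hadd, hz, hz, K.isCoc.zero, add_zero]
  refine ⟨g, hg, h, hh, ?_, hhπ⟩
  rw [hha]
  · congr 1
    exact hom_ext fun v => by rw [act_comp, act_V, hg₀, hga]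
  · exact hom_ext fun v => by rw [act_comp, act_V, act_R, truncate_shift_eq_zero _ _ (by omega), act_one]

end Groth.Agent.WittExt
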