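import Groth.Agent.WittExt.Cocycle
import Groth.Agent.WittExt.Section

/-!
# The cocycle of an extension of Witt groups, and homomorphisms into and out of it
-/

set_option autoImplicit false
set_option maxSynthPendingDepth 3
universe u

noncomputable section

open CategoryTheory CategoryTheory.Limits MonoidalCategory CartesianMonoidalCategory MonObj AlgebraicGeometry

namespace Groth.Agent.WittExt

open Groth.Agent.WittHom
open Groth.Agent.WittSub (val val_mul val_injective)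

variable {p : ℕ} [hp : Fact p.Prime] {k : Type u} [Field k]

local notation "Sk" => Spec (CommRingCat.of k)

variable {n m l : ℕ}

theorem val_one : val (1 : 𝟙_ (Over Sk) ⟶ WittGrp.W p n Sk) = 0 := by
  have h := val_mul (1 : 𝟙_ (Over Sk) ⟶ WittGrp.W p n Sk) 1
  rw [_root_.mul_one] at h
  exact left_eq_add.1 h

theorem pt_zero : pt (0 : TW p n k) = 1 := val_injective (by rw [val_pt, val_one])

theorem act_mul (f g : WittGrp.W p n Sk ⟶ WittGrp.W p m Sk) (v : TW p n k) :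
    act (f * g) v = act f v + act g v := by rw [act, MonObj.comp_mul, val_mul]; rfl

theorem act_one (v : TW p n k) : act (1 : WittGrp.W p n Sk ⟶ WittGrp.W p m Sk) v = 0 := by
  rw [act, MonObj.comp_one, val_one]

/-- The projections of the double. -/
def Lm (n : ℕ) : WittGrp.W p (n + n) Sk ⟶ WittGrp.W p n Sk :=
  ofPoly fun i => MvPolynomial.X (Fin.castAdd n i)

/-- The projections of the double. -/
def Rm (n : ℕ) : WittGrp.W p (n + n) Sk ⟶ WittGrp.W p n Sk :=
  ofPoly fun i => MvPolynomial.X (Fin.natAdd n i)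

theorem act_Lm (z : TW p (n + n) k) : act (Lm n) z = lft z :=
  TruncatedWittVector.ext fun i => by simp [act, Lm, crd_val_comp_ofPoly, val_pt, lft, crd]

theorem act_Rm (z : TW p (n + n) k) : act (Rm n) z = rgt z :=
  TruncatedWittVector.ext fun i => by simp [act, Rm, crd_val_comp_ofPoly, val_pt, rgt, crd]

theorem exists_double {T : Over Sk} (x y : T ⟶ WittGrp.W p n Sk) :
    ∃ z : T ⟶ WittGrp.W p (n + n) Sk, z ≫ Lm n = x ∧ z ≫ Rm n = y := by
  refine ⟨((WittGrp.pts p T).symm (TruncatedWittVector.mk p fun i => Fin.addCases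
    (fun a => (WittGrp.pts p T (Additive.ofMul x)).coeff a)
    (fun a => (WittGrp.pts p T (Additive.ofMul y)).coeff a) i)).toMul, ?_, ?_⟩
  · refine WittGrp.pts_injective p T (TruncatedWittVector.ext fun i => ?_)
    show (WittGrp.pts p T (Additive.ofMul (_ ≫ Lm n))).coeff i = _
    rw [Lm, coeff_comp_ofPoly, E, MvPolynomial.eval₂Hom_X', ofMul_toMul, AddEquiv.apply_symm_apply,
      TruncatedWittVector.coeff_mk, Fin.addCases_left]
  · refine WittGrp.pts_injective p T (TruncatedWittVector.ext fun i => ?_)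
    show (WittGrp.pts p T (Additive.ofMul (_ ≫ Rm n))).coeff i = _
    rw [Rm, coeff_comp_ofPoly, E, MvPolynomial.eval₂Hom_X', ofMul_toMul, AddEquiv.apply_symm_apply,
      TruncatedWittVector.coeff_mk, Fin.addCases_right]

/-- A normalised section of an extension. -/
structure Chart {n m : ℕ} {G : Over Sk} [GrpObj G] (π : G ⟶ WittGrp.W p n Sk)
    (i : WittGrp.W p m Sk ⟶ G) where
  /-- The section. -/
  s : WittGrp.W p n Sk ⟶ G
  sect : s ≫ π = 𝟙 _
  norm : ∀ T : Over Sk, (1 : T ⟶ WittGrp.W p n Sk) ≫ s = 1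
  ker : AlgGrp.IsKernel i π

variable {G : Over (Spec (CommRingCat.of k))} [GrpObj G] {π : G ⟶ WittGrp.W p n (Spec (CommRingCat.of k))}
  {i : WittGrp.W p m (Spec (CommRingCat.of k)) ⟶ G}

theorem exists_chart [IsMonHom π] [IsMonHom i] [QuasiCompact G.hom] [Flat π.left] [Surjective π.left]
    (hker : AlgGrp.IsKernel i π) : Nonempty (Chart π i) := by
  haveI : CompactSpace G.left := QuasiCompact.compactSpace_of_compactSpace G.hom
  haveI : IsAffine (WittGrp.W p n Sk).left := by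
    change IsAffine 𝔸(ULift.{u} (Fin n); Sk)
    infer_instance
  obtain ⟨s, hs⟩ := exists_section π i hker
  refine ⟨⟨((1 : WittGrp.W p n Sk ⟶ WittGrp.W p n Sk) ≫ s)⁻¹ * s, ?_, fun T => ?_, hker⟩⟩
  · rw [MonObj.mul_comp, GrpObj.inv_comp, Category.assoc, hs, Category.comp_id, inv_one, _root_.one_mul]
  · rw [MonObj.comp_mul, GrpObj.comp_inv, ← Category.assoc, MonObj.comp_one, inv_mul_cancel]

variable [IsMonHom π] [IsMonHom i] (K₀ : Chart π i)

namespace Chart

include K₀ in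
theorem mono : Mono i := ⟨fun _ _ h => K₀.ker.hom_ext h (toUnit_unique _ _)⟩

/-- The retraction. -/
def r : G ⟶ WittGrp.W p m Sk :=
  K₀.ker.lift (𝟙 G * (π ≫ K₀.s)⁻¹) (toUnit G) (by
    rw [MonObj.mul_comp, GrpObj.inv_comp, Category.assoc, K₀.sect, Category.id_comp, Category.comp_id,
      mul_inv_cancel, Hom.one_def])

theorem comp_r_comp {T : Over Sk} (e : T ⟶ G) : (e ≫ K₀.r) ≫ i = e * (e ≫ π ≫ K₀.s)⁻¹ := by
  rw [Category.assoc, r, K₀.ker.lift_fst, MonObj.comp_mul, GrpObj.comp_inv, Category.comp_id]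

theorem comp_r_of_one {T : Over Sk} {e : T ⟶ G} (he : e ≫ π = 1) : (e ≫ K₀.r) ≫ i = e := by
  rw [comp_r_comp, ← Category.assoc, he, K₀.norm, inv_one, _root_.mul_one]

include K₀ in
theorem i_comp_π {T : Over Sk} (a : T ⟶ WittGrp.W p m Sk) : (a ≫ i) ≫ π = 1 := by
  rw [Category.assoc, K₀.ker.w, ← Category.assoc, toUnit_unique (a ≫ toUnit _) (toUnit _), Hom.one_def]

theorem i_r : i ≫ K₀.r = 𝟙 _ := by
  haveI := K₀.mono
  rw [← cancel_mono i, comp_r_comp, Category.id_comp, ← Category.assoc i π,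
    show i ≫ π = 1 by simpa using K₀.i_comp_π (𝟙 _), K₀.norm, inv_one, _root_.mul_one]

theorem s_r {T : Over Sk} (x : T ⟶ WittGrp.W p n Sk) : (x ≫ K₀.s) ≫ K₀.r = 1 := by
  haveI := K₀.mono
  rw [← cancel_mono i, comp_r_comp, Category.assoc, ← Category.assoc K₀.s, K₀.sect, Category.id_comp, mul_inv_cancel,
    MonObj.one_comp]

/-- The cocycle on points of any scheme. -/
def cT {T : Over Sk} (x y : T ⟶ WittGrp.W p n Sk) : T ⟶ WittGrp.W p m Sk :=
  ((x ≫ K₀.s) * (y ≫ K₀.s) * ((x * y) ≫ K₀.s)⁻¹) ≫ K₀.r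

theorem cT_comp {T : Over Sk} (x y : T ⟶ WittGrp.W p n Sk) :
    K₀.cT x y ≫ i = (x ≫ K₀.s) * (y ≫ K₀.s) * ((x * y) ≫ K₀.s)⁻¹ := by
  refine K₀.comp_r_of_one ?_
  simp only [MonObj.mul_comp, GrpObj.inv_comp, Category.assoc, K₀.sect, Category.comp_id, mul_inv_cancel]

theorem comp_cT {T T' : Over Sk} (g : T' ⟶ T) (x y : T ⟶ WittGrp.W p n Sk) :
    g ≫ K₀.cT x y = K₀.cT (g ≫ x) (g ≫ y) := by
  simp only [cT, ← Category.assoc, MonObj.comp_mul, GrpObj.comp_inv]

/-- The cocycle. -/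
def c (x y : TW p n k) : TW p m k := val (K₀.cT (pt x) (pt y))

/-- The cocycle as a morphism. -/
def cM : WittGrp.W p (n + n) Sk ⟶ WittGrp.W p m Sk := K₀.cT (Lm n) (Rm n)

theorem act_cM (z : TW p (n + n) k) : act K₀.cM z = K₀.c (lft z) (rgt z) := by
  rw [act, cM, comp_cT, c]
  congr 2 <;> refine val_injective ?_ <;> rw [val_comp_eq_act, val_pt, val_pt]
  · exact act_Lm z
  · exact act_Rm z

variable [IsCommMonObj G]

theorem mul_r {T : Over Sk} (e e' : T ⟶ G) :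
    (e * e') ≫ K₀.r = (e ≫ K₀.r) * (e' ≫ K₀.r) * K₀.cT (e ≫ π) (e' ≫ π) := by
  haveI := K₀.mono
  rw [← cancel_mono i]
  simp only [MonObj.mul_comp _ _ i, comp_r_comp, cT_comp]
  rw [← Category.assoc (e * e'), MonObj.mul_comp e e' π, Category.assoc, Category.assoc]
  generalize e ≫ π ≫ K₀.s = a
  generalize e' ≫ π ≫ K₀.s = b
  generalize ((e ≫ π) * (e' ≫ π)) ≫ K₀.s = d
  calc e * e' * d⁻¹ = (e * a⁻¹ * (e' * b⁻¹)) * ((a * b) * d⁻¹) := by
        rw [_root_.mul_mul_mul_comm e a⁻¹, ← mul_inv, _root_.mul_assoc (e * e'), inv_mul_cancel_left]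
    _ = _ := rfl

theorem isCoc [CharP k p] [IsAlgClosed k] : IsCoc K₀.c where
  poly := by
    have h : (fun z => K₀.c (lft z) (rgt z)) = act K₀.cM := funext fun z => (K₀.act_cM z).symm
    show Groth.Agent.WittHom.IsPoly _
    rw [h]
    exact isPoly_act _
  zero x := by
    rw [c, cT, pt_zero, K₀.norm, _root_.mul_one, _root_.mul_one, mul_inv_cancel,
      show (1 : 𝟙_ (Over Sk) ⟶ G) ≫ K₀.r = 1 from ?_, val_one]
    haveI := K₀.mono
    rw [← cancel_mono i, comp_r_comp, ← Category.assoc, MonObj.one_comp, K₀.norm, MonObj.one_comp, inv_one,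
      _root_.mul_one]
  symm x y := by rw [c, c, cT, cT, mul_comm (pt y ≫ K₀.s), mul_comm (pt y)]
  coc x y z := by
    have hadd : ∀ a b : TW p n k, pt (a + b) = pt a * pt b := fun a b =>
      val_injective (by rw [val_mul, val_pt, val_pt, val_pt])
    simp only [c, hadd, ← val_mul]
    congr 1
    haveI := K₀.mono
    rw [← cancel_mono i, MonObj.mul_comp, MonObj.mul_comp, cT_comp, cT_comp, cT_comp, cT_comp, _root_.mul_assoc (pt x)]
    generalize pt x ≫ K₀.s = a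
    generalize pt y ≫ K₀.s = b
    generalize pt z ≫ K₀.s = d
    generalize (pt y * pt z) ≫ K₀.s = bd
    generalize (pt x * pt y) ≫ K₀.s = ab
    generalize (pt x * (pt y * pt z)) ≫ K₀.s = t
    calc b * d * bd⁻¹ * (a * bd * t⁻¹) = a * b * d * t⁻¹ := by
          rw [_root_.mul_mul_mul_comm, _root_.mul_comm (b * d), _root_.mul_mul_mul_comm a, _root_.mul_mul_mul_comm]
          simp [_root_.mul_assoc, _root_.mul_comm, mul_left_comm]
      _ = ab * d * t⁻¹ * (a * b * ab⁻¹) := by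
          simp [_root_.mul_assoc, _root_.mul_comm, mul_left_comm]

/-- The section is multiplicative up to the cocycle, on rational points. -/
theorem point_s (x y : TW p n k) :
    (pt x ≫ K₀.s) * (pt y ≫ K₀.s) = (pt (K₀.c x y) ≫ i) * (pt (x + y) ≫ K₀.s) := by
  have h1 : pt (K₀.c x y) = K₀.cT (pt x) (pt y) := val_injective (val_pt _)
  have h2 : pt (x + y) = pt x * pt y := val_injective (by rw [val_mul, val_pt, val_pt, val_pt])
  rw [h1, h2, cT_comp, inv_mul_cancel_right]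

variable [CharP k p] [IsAlgClosed k]

theorem exists_hom_out (A : WittGrp.W p m Sk ⟶ WittGrp.W p l Sk) [IsMonHom A]
    (B : WittGrp.W p n Sk ⟶ WittGrp.W p l Sk)
    (hB : ∀ x y, act A (K₀.c x y) + act B (x + y) = act B x + act B y) :
    ∃ h : G ⟶ WittGrp.W p l Sk, IsMonHom h ∧ i ≫ h = A ∧ K₀.s ≫ h = B := by
  haveI := IsAlgClosed.instInfinite (K := k)
  have hU : ∀ (T : Over Sk) (x y : T ⟶ WittGrp.W p n Sk),
      (K₀.cT x y ≫ A) * ((x * y) ≫ B) = (x ≫ B) * (y ≫ B) := by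
    intro T x y
    obtain ⟨z, hx, hy⟩ := exists_double x y
    have h : (K₀.cM ≫ A) * ((Lm n * Rm n) ≫ B) = (Lm n ≫ B) * (Rm n ≫ B) := hom_ext fun v => by
      simp only [act_mul, act_comp, act_cM, act_Lm, act_Rm, hB]
    have h' := congrArg (z ≫ ·) h
    simp only [MonObj.comp_mul, ← Category.assoc, cM, comp_cT, hx, hy] at h'
    exact h'
  have hB0 : act B 0 = 0 := by
    have h := hB 0 0
    rw [K₀.isCoc.zero, show act A 0 = 0 from map_zero (actHom A), zero_add, add_zero] at h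
    exact left_eq_add.1 h
  have hmul : ∀ (T : Over Sk) (e e' : T ⟶ G), (e * e') ≫ ((K₀.r ≫ A) * (π ≫ B)) =
      (e ≫ ((K₀.r ≫ A) * (π ≫ B))) * (e' ≫ ((K₀.r ≫ A) * (π ≫ B))) := fun T e e' => by
    simp only [MonObj.comp_mul, ← Category.assoc, K₀.mul_r, MonObj.mul_comp _ _ A, MonObj.mul_comp _ _ π]
    rw [_root_.mul_assoc (((e ≫ K₀.r) ≫ A) * ((e' ≫ K₀.r) ≫ A)), hU, _root_.mul_mul_mul_comm]
  refine ⟨(K₀.r ≫ A) * (π ≫ B), WittGrp.isMonHom_of_comp_mul _ ?_ hmul, ?_, ?_⟩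
  · have h := hmul _ (1 : 𝟙_ (Over Sk) ⟶ G) 1
    rw [_root_.one_mul] at h
    exact left_eq_mul.1 h
  · have h1 : (1 : WittGrp.W p m Sk ⟶ WittGrp.W p n Sk) ≫ B = 1 := hom_ext fun v => by
      rw [act_comp, act_one, act_one, hB0]
    rw [MonObj.comp_mul, ← Category.assoc, ← Category.assoc, K₀.i_r, Category.id_comp,
      show i ≫ π = 1 by simpa using K₀.i_comp_π (𝟙 _), h1, _root_.mul_one]
  · rw [MonObj.comp_mul, ← Category.assoc, ← Category.assoc, K₀.sect, Category.id_comp,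
      show K₀.s ≫ K₀.r = 1 by simpa using K₀.s_r (𝟙 _), MonObj.one_comp, _root_.one_mul]

theorem act_hom_out (h : G ⟶ WittGrp.W p l Sk) [IsMonHom h] (x y : TW p n k) :
    act (K₀.s ≫ h) x + act (K₀.s ≫ h) y = act (i ≫ h) (K₀.c x y) + act (K₀.s ≫ h) (x + y) := by
  have e := congrArg (fun w : 𝟙_ (Over Sk) ⟶ G => val (w ≫ h)) (K₀.point_s x y)
  simp only [MonObj.mul_comp, val_mul, Category.assoc] at e
  exact e

theorem exists_hom_in (g : WittGrp.W p l Sk ⟶ WittGrp.W p m Sk) (q : WittGrp.W p l Sk ⟶ WittGrp.W p n Sk)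
    [IsMonHom q] (hg : ∀ x y, act g (x + y) = act g x + act g y + K₀.c (act q x) (act q y)) :
    ∃ h : WittGrp.W p l Sk ⟶ G, IsMonHom h ∧ h ≫ π = q ∧
      ∀ {j : ℕ} (a : WittGrp.W p j Sk ⟶ WittGrp.W p l Sk), a ≫ q = 1 → a ≫ h = (a ≫ g) ≫ i := by
  haveI := IsAlgClosed.instInfinite (K := k)
  have hU : ∀ (T : Over Sk) (x y : T ⟶ WittGrp.W p l Sk),
      (x * y) ≫ g = (x ≫ g) * (y ≫ g) * K₀.cT (x ≫ q) (y ≫ q) := by
    intro T x y
    obtain ⟨z, hx, hy⟩ := exists_double x y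
    have h : (Lm l * Rm l) ≫ g = (Lm l ≫ g) * (Rm l ≫ g) * K₀.cT (Lm l ≫ q) (Rm l ≫ q) := hom_ext fun v => by
      simp only [act_mul, act_comp, hg]
      congr 1
      conv_rhs => rw [act, comp_cT]
      rw [c]
      congr 2 <;> exact val_injective (by rw [val_pt, val_comp_eq_act, act_comp, val_pt])
    have h' := congrArg (z ≫ ·) h
    simp only [MonObj.comp_mul, ← Category.assoc, comp_cT, hx, hy] at h'
    exact h'
  have hmul : ∀ (T : Over Sk) (x y : T ⟶ WittGrp.W p l Sk), (x * y) ≫ ((g ≫ i) * (q ≫ K₀.s)) =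
      (x ≫ ((g ≫ i) * (q ≫ K₀.s))) * (y ≫ ((g ≫ i) * (q ≫ K₀.s))) := fun T x y => by
    simp only [MonObj.comp_mul, ← Category.assoc, hU, MonObj.mul_comp _ _ q, MonObj.mul_comp _ _ i, K₀.cT_comp]
    rw [_root_.mul_assoc (((x ≫ g) ≫ i) * ((y ≫ g) ≫ i)), inv_mul_cancel_right, _root_.mul_mul_mul_comm]
  refine ⟨(g ≫ i) * (q ≫ K₀.s), WittGrp.isMonHom_of_comp_mul _ ?_ hmul, ?_, fun {j} a ha => ?_⟩
  · have h := hmul _ (1 : 𝟙_ (Over Sk) ⟶ WittGrp.W p l Sk) 1
    rw [_root_.one_mul] at h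
    exact left_eq_mul.1 h
  · rw [MonObj.mul_comp, K₀.i_comp_π, Category.assoc, K₀.sect, Category.comp_id, _root_.one_mul]
  · rw [MonObj.comp_mul, ← Category.assoc, ← Category.assoc, ha, K₀.norm, _root_.mul_one]

theorem act_hom_in (h : WittGrp.W p l Sk ⟶ G) [IsMonHom h] (x y : TW p l k) :
    act (h ≫ K₀.r) (x + y) = act (h ≫ K₀.r) x + act (h ≫ K₀.r) y + K₀.c (act (h ≫ π) x) (act (h ≫ π) y) := by
  have h2 : pt (x + y) = pt x * pt y := val_injective (by rw [val_mul, val_pt, val_pt, val_pt])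
  show val (pt (x + y) ≫ h ≫ K₀.r) = val (pt x ≫ h ≫ K₀.r) + val (pt y ≫ h ≫ K₀.r) + _
  rw [h2, ← Category.assoc, MonObj.mul_comp, K₀.mul_r, val_mul, val_mul, Category.assoc, Category.assoc]
  congr 1
  rw [c]
  congr 2 <;> exact val_injective (by rw [val_pt, Category.assoc, val_comp_eq_act, val_pt])

end Chart

end Groth.Agent.WittExt
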