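import Groth.Agent.WittExt.Scalar

/-!
# Symmetric polynomial cocycles between truncated Witt vectors
-/

set_option autoImplicit false
set_option maxSynthPendingDepth 3
universe u

noncomputable section

namespace Groth.Agent.WittExt

open Groth.Agent.WittHom
open Groth.Agent.WittSub (LowZero)

variable {p : ℕ} [hp : Fact p.Prime] {k : Type u} [Field k] {n m l : ℕ}

/-! ### Pairs -/

/-- First half. -/
def lft (z : TW p (n + n) k) : TW p n k := TruncatedWittVector.mk p fun i => z.coeff (Fin.castAdd n i)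

/-- Second half. -/
def rgt (z : TW p (n + n) k) : TW p n k := TruncatedWittVector.mk p fun i => z.coeff (Fin.natAdd n i)

/-- The vector with given halves. -/
def pair (x y : TW p n k) : TW p (n + n) k :=
  TruncatedWittVector.mk p fun i => Fin.addCases (fun a => x.coeff a) (fun a => y.coeff a) i

theorem lft_pair (x y : TW p n k) : lft (pair x y) = x :=
  TruncatedWittVector.ext fun i => by simp [lft, pair]

theorem rgt_pair (x y : TW p n k) : rgt (pair x y) = y :=
  TruncatedWittVector.ext fun i => by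
    rw [rgt, TruncatedWittVector.coeff_mk, pair, TruncatedWittVector.coeff_mk, Fin.addCases_right]

theorem isPoly_lft : IsPoly (lft : TW p (n + n) k → TW p n k) :=
  ⟨TruncatedWittVector.mk p fun i => MvPolynomial.X (Fin.castAdd n i),
    fun v => TruncatedWittVector.ext fun i => by simp [evMap, lft, crd]⟩

theorem isPoly_rgt : IsPoly (rgt : TW p (n + n) k → TW p n k) :=
  ⟨TruncatedWittVector.mk p fun i => MvPolynomial.X (Fin.natAdd n i),
    fun v => TruncatedWittVector.ext fun i => by simp [evMap, rgt, crd]⟩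

theorem isPoly_pair {φ ψ : TW p l k → TW p n k} (hφ : IsPoly φ) (hψ : IsPoly ψ) :
    IsPoly fun v => pair (φ v) (ψ v) := by
  obtain ⟨G, hG⟩ := hφ
  obtain ⟨H, hH⟩ := hψ
  refine ⟨TruncatedWittVector.mk p fun i => Fin.addCases (fun a => G.coeff a) (fun a => H.coeff a) i,
    fun v => TruncatedWittVector.ext fun i => ?_⟩
  simp only [evMap, pair, hG, hH, WittGrp.coeff_truncMap, TruncatedWittVector.coeff_mk]
  induction i using Fin.addCases with
  | left a => simp only [Fin.addCases_left]
  | right a => simp only [Fin.addCases_right]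

/-- Polynomial functions of two vectors. -/
def IsPoly2 (f : TW p n k → TW p n k → TW p m k) : Prop := IsPoly fun z => f (lft z) (rgt z)

theorem IsPoly2.comp {f : TW p n k → TW p n k → TW p m k} (hf : IsPoly2 f) {φ ψ : TW p l k → TW p n k}
    (hφ : IsPoly φ) (hψ : IsPoly ψ) : IsPoly fun v => f (φ v) (ψ v) := by
  have h := IsPoly.comp hf (isPoly_pair hφ hψ)
  simp only [lft_pair, rgt_pair] at h
  exact h

theorem IsPoly2.comp₂ {f : TW p n k → TW p n k → TW p m k} (hf : IsPoly2 f) {φ : TW p l k → TW p n k}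
    (hφ : IsPoly φ) : IsPoly2 fun x y => f (φ x) (φ y) :=
  hf.comp (hφ.comp isPoly_lft) (hφ.comp isPoly_rgt)

/-- Symmetric normalised cocycles. -/
structure IsCoc (c : TW p n k → TW p n k → TW p m k) : Prop where
  poly : IsPoly2 c
  zero : ∀ x, c x 0 = 0
  symm : ∀ x y, c y x = c x y
  coc : ∀ x y z, c y z + c x (y + z) = c (x + y) z + c x y

/-- The coboundary. -/
def dd (B : TW p n k → TW p m k) (x y : TW p n k) : TW p m k := B x + B y - B (x + y)

theorem isCoc_dd {B : TW p n k → TW p m k} (hB : IsPoly B) (h0 : B 0 = 0) : IsCoc (dd B) where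
  poly := ((hB.comp isPoly_lft).add (hB.comp isPoly_rgt)).sub (hB.comp (isPoly_lft.add isPoly_rgt))
  zero x := by simp [dd, h0]
  symm x y := by simp only [dd, add_comm y x, add_comm (B y)]
  coc x y z := by simp only [dd, add_assoc x]; abel

theorem IsCoc.sub {c c' : TW p n k → TW p n k → TW p m k} (h : IsCoc c) (h' : IsCoc c') :
    IsCoc fun x y => c x y - c' x y where
  poly := Groth.Agent.WittHom.IsPoly.sub h.poly h'.poly
  zero x := by rw [h.zero, h'.zero, sub_zero]
  symm x y := by rw [h.symm, h'.symm]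
  coc x y z := by rw [sub_add_sub_comm, h.coc, h'.coc, add_sub_add_comm]

theorem IsCoc.add {c c' : TW p n k → TW p n k → TW p m k} (h : IsCoc c) (h' : IsCoc c') :
    IsCoc fun x y => c x y + c' x y where
  poly := Groth.Agent.WittHom.IsPoly.add h.poly h'.poly
  zero x := by rw [h.zero, h'.zero, add_zero]
  symm x y := by rw [h.symm, h'.symm]
  coc x y z := by rw [add_add_add_comm, h.coc, h'.coc, add_add_add_comm]

theorem IsCoc.map {c : TW p n k → TW p n k → TW p m k} (h : IsCoc c) (φ : TW p m k →+ TW p l k)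
    (hφ : IsPoly φ) : IsCoc fun x y => φ (c x y) where
  poly := hφ.comp h.poly
  zero x := by rw [h.zero, map_zero]
  symm x y := by rw [h.symm]
  coc x y z := by rw [← map_add, h.coc, map_add]

theorem IsCoc.comap {c : TW p n k → TW p n k → TW p m k} (h : IsCoc c) (φ : TW p l k →+ TW p n k)
    (hφ : IsPoly φ) : IsCoc fun x y => c (φ x) (φ y) where
  poly := h.poly.comp₂ hφ
  zero x := by rw [map_zero, h.zero]
  symm x y := h.symm _ _
  coc x y z := by rw [map_add, map_add, h.coc]

/-! ### The standard cocycles -/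

section

variable (h : m ≤ n)

/-- The defect of the section `pad`. -/
def top (v : TW p n k) : TW p n k := v - pad n (TruncatedWittVector.truncate h v)

theorem lowZero_top (v : TW p n k) : LowZero m (top h v) := lowZero_sub_pad h v

theorem top_add_eq (v w : TW p n k) : top h (v + w) = top h v + top h w +
    top h (pad n (TruncatedWittVector.truncate h v) + pad n (TruncatedWittVector.truncate h w)) := by
  simp only [top, map_add, truncate_pad]
  abel

theorem top_pad (x : TW p m k) : top h (pad n x) = 0 := by rw [top, truncate_pad, sub_self]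

theorem top_add_of_lowZero (v : TW p n k) {b : TW p n k} (hb : LowZero m b) : top h (v + b) = top h v + b := by
  simp only [top, map_add, (lowZero_iff_truncate h b).1 hb, add_zero]
  abel

theorem top_zero : top h (0 : TW p n k) = 0 := by
  rw [top, map_zero, zero_sub, neg_eq_zero]
  exact TruncatedWittVector.ext fun i => by simp [pad]

end

/-- The last component after the section `pad`. -/
def tb (n : ℕ) (v : TW p (n + 1) k) : TW p 1 k := tail (Nat.le_add_left 1 n) (top (Nat.le_succ n) v)

theorem shift_tb (v : TW p (n + 1) k) :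
    WittGrp.shift p (Nat.le_add_left 1 n) (tb n v) = top (Nat.le_succ n) v :=
  shift_tail _ (by rw [Nat.add_sub_cancel]; exact lowZero_top _ v)

theorem isPoly_tb : IsPoly (tb n : TW p (n + 1) k → TW p 1 k) :=
  (isPoly_tail _).comp (isPoly_id.sub (isPoly_pad.comp (isPoly_id.truncate _)))

/-- The class of `W_(n+1)` over `W_n`. -/
def zc (x y : TW p n k) : TW p 1 k := tb n (pad (n + 1) x + pad (n + 1) y)

theorem tb_pad (x : TW p n k) : tb n (pad (n + 1) x) = 0 :=
  shift_injective (Nat.le_add_left 1 n) (by rw [shift_tb, top_pad, map_zero])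

theorem pad_zero (j : ℕ) : pad j (0 : TW p n k) = 0 := TruncatedWittVector.ext fun i => by simp [pad]

theorem tb_add (v w : TW p (n + 1) k) : tb n (v + w) = tb n v + tb n w +
    zc (TruncatedWittVector.truncate (Nat.le_succ n) v) (TruncatedWittVector.truncate (Nat.le_succ n) w) :=
  shift_injective (Nat.le_add_left 1 n) (by
    simp only [zc, map_add, shift_tb]
    exact top_add_eq _ v w)

theorem tb_add_shift (v : TW p (n + 1) k) (a : TW p 1 k) :
    tb n (v + WittGrp.shift p (Nat.le_add_left 1 n) a) = tb n v + a :=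
  shift_injective (Nat.le_add_left 1 n) (by
    rw [map_add (WittGrp.shift p _), shift_tb, shift_tb, top_add_of_lowZero]
    intro i hi
    rw [WittGrp.coeff_shift, dif_neg (by omega)])

theorem isCoc_zc : IsCoc (zc : TW p n k → TW p n k → TW p 1 k) where
  poly := isPoly_tb.comp ((isPoly_pad.comp isPoly_lft).add (isPoly_pad.comp isPoly_rgt))
  zero x := by rw [zc, pad_zero, add_zero, tb_pad]
  symm x y := by rw [zc, zc, add_comm]
  coc x y z := by
    have h1 : ∀ a b : TW p n k, tb n (pad (n + 1) a + pad (n + 1) b) = zc a b := fun _ _ => rfl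
    have ht : ∀ a : TW p n k, TruncatedWittVector.truncate (Nat.le_succ n) (pad (n + 1) a) = a :=
      fun a => truncate_pad _ a
    have e1 := tb_add (pad (n + 1) x) (pad (n + 1) y + pad (n + 1) z)
    have e2 := tb_add (pad (n + 1) x + pad (n + 1) y) (pad (n + 1) z)
    simp only [map_add, ht, tb_pad, h1, zero_add, add_zero] at e1 e2
    rw [← e1, ← add_assoc (pad (n + 1) x), e2, add_comm]

/-- The class of `W_(n+1)` over `W_1`. -/
def zz (n : ℕ) (a b : TW p 1 k) : TW p n k :=
  tail (Nat.le_succ n) (top (Nat.le_add_left 1 n) (pad (n + 1) a + pad (n + 1) b))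

theorem shift_zz (a b : TW p 1 k) : WittGrp.shift p (Nat.le_succ n) (zz n a b) =
    pad (n + 1) a + pad (n + 1) b - pad (n + 1) (a + b) := by
  rw [zz, shift_tail _ (show LowZero (n + 1 - n) _ by rw [Nat.add_sub_cancel_left]; exact lowZero_top _ _), top, map_add,
    truncate_pad, truncate_pad]

theorem isCoc_zz : IsCoc (zz n : TW p 1 k → TW p 1 k → TW p n k) where
  poly := (isPoly_tail _).comp (((isPoly_pad.comp isPoly_lft).add (isPoly_pad.comp isPoly_rgt)).sub
    (isPoly_pad.comp (((isPoly_pad.comp isPoly_lft).add (isPoly_pad.comp isPoly_rgt)).truncate _)))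
  zero x := shift_injective (Nat.le_succ n) (by rw [shift_zz, pad_zero, add_zero, add_zero, sub_self, map_zero])
  symm x y := shift_injective (Nat.le_succ n) (by rw [shift_zz, shift_zz, add_comm y x, add_comm (pad (n + 1) y)])
  coc x y z := shift_injective (Nat.le_succ n) (by
    simp only [map_add, shift_zz, add_assoc x]
    abel)

theorem zz_one (a b : TW p 1 k) : zz 1 a b = zc a b := rfl

theorem truncate_zz (a b : TW p 1 k) :
    TruncatedWittVector.truncate (Nat.le_succ n) (zz (n + 1) a b) = zz n a b := by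
  refine shift_injective (Nat.le_succ n) ?_
  have key : ∀ x : TW p (n + 1) k, WittGrp.shift p (Nat.le_succ n) (TruncatedWittVector.truncate (Nat.le_succ n) x) =
      TruncatedWittVector.truncate (Nat.le_succ (n + 1)) (WittGrp.shift p (Nat.le_succ (n + 1)) x) := fun x => by
    refine TruncatedWittVector.ext fun i => ?_
    rw [WittGrp.coeff_shift, TruncatedWittVector.coeff_truncate, WittGrp.coeff_shift]
    have hi := i.2
    simp only [Fin.val_castLE]
    split_ifs with h1 h2 h2
    · rw [TruncatedWittVector.coeff_truncate]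
      congr 1
      ext
      simp
    · omega
    · omega
    · rfl
  have hpad : ∀ x : TW p 1 k, TruncatedWittVector.truncate (Nat.le_succ (n + 1)) (pad (n + 1 + 1) x) = pad (n + 1) x :=
    fun x => TruncatedWittVector.ext fun i => by
      simp only [pad, TruncatedWittVector.coeff_truncate, TruncatedWittVector.coeff_mk, Fin.val_castLE]
  rw [key, shift_zz, shift_zz, map_sub, map_add, hpad, hpad, hpad]

/-- `zz` is additive in the pulled back variable up to a coboundary. -/
theorem zz_add (ψ ψ' : TW p 1 k →+ TW p 1 k) (x y : TW p 1 k) :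
    zz n ((ψ + ψ') x) ((ψ + ψ') y) = zz n (ψ x) (ψ y) + zz n (ψ' x) (ψ' y) +
      dd (fun a => -zz n (ψ a) (ψ' a)) x y := by
  refine shift_injective (Nat.le_succ n) ?_
  simp only [dd, map_add, map_sub, map_neg, shift_zz, AddMonoidHom.add_apply]
  rw [add_add_add_comm (ψ x) (ψ' x)]
  abel

theorem zz_zero (a : TW p 1 k) : zz n 0 a = (0 : TW p n k) := by rw [isCoc_zz.symm, isCoc_zz.zero]

/-! ### The first component -/

/-- The component of vectors of length one. -/
def c0 : TW p 1 k →+ k := AddMonoidHom.mk' (fun v => v.coeff 0) fun _ _ => WittSub.coeff_add_zero _ _ 0 rfl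

theorem c0_injective : Function.Injective (c0 : TW p 1 k →+ k) := fun v w h =>
  TruncatedWittVector.ext fun i => by rw [Fin.fin_one_eq_zero i]; exact h

/-- The vector of length one. -/
def sc (t : k) : TW p 1 k := TruncatedWittVector.mk p fun _ => t

theorem c0_sc (t : k) : c0 (sc (p := p) t) = t := by
  show (sc (p := p) t).coeff 0 = t
  rw [sc, TruncatedWittVector.coeff_mk]

theorem sc_c0 (v : TW p 1 k) : sc (c0 v) = v := c0_injective (c0_sc _)

theorem pad_eq_hd [Infinite k] (j : ℕ) (v : TW p 1 k) : pad j v = hd p j (c0 v) :=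
  TruncatedWittVector.ext fun i => by
    rw [pad, TruncatedWittVector.coeff_mk, coeff_hd]
    split_ifs with h1 h2 h2
    · exact congrArg (fun j => v.coeff j) (Fin.fin_one_eq_zero _)
    · omega
    · omega
    · rfl

theorem shift_one_two (v : TW p 1 k) [CharP k p] :
    WittGrp.shift p (Nat.le_add_left 1 1) v = emb 1 (c0 v) := by
  rw [emb]
  congr 1
  exact TruncatedWittVector.ext fun i => by rw [TruncatedWittVector.coeff_mk, Fin.fin_one_eq_zero i]; rfl

variable [CharP k p] [IsAlgClosed k]

theorem c0_zc (x y : TW p 1 k) : c0 (zc x y) = ev (c0 x) (c0 y) (Cw p k) := by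
  have h : WittGrp.shift p (Nat.le_add_left 1 1) (zc x y) = emb 1 (ev (c0 x) (c0 y) (Cw p k)) := by
    rw [zc, shift_tb, top, map_add, truncate_pad, truncate_pad, pad_eq_hd, pad_eq_hd, pad_eq_hd, map_add c0,
      hd_add_eq, add_sub_cancel_left]
  rw [shift_one_two] at h
  exact emb_injective 1 h

theorem ev_Cw_frob (j : ℕ) (x y : k) :
    ev (x ^ p ^ j) (y ^ p ^ j) (Cw p k) = ev x y (Cw p k) ^ p ^ j := by
  have hd_frob : ∀ t : k, FrI 2 j (hd p 2 t) = hd p 2 (t ^ p ^ j) := fun t => TruncatedWittVector.ext fun i => by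
    rw [coeff_FrI, coeff_hd, coeff_hd]
    split_ifs with h
    · rfl
    · exact zero_pow (pow_ne_zero _ hp.out.ne_zero)
  refine emb_injective (p := p) 1 (add_left_cancel (a := hd p 2 (x ^ p ^ j + y ^ p ^ j)) ?_)
  rw [← hd_add_eq, ← hd_frob, ← hd_frob, ← map_add, hd_add_eq, map_add, FrI_emb, hd_frob, add_pow_char_pow]

/-- Left multiples of the class are right multiples. -/
theorem exists_right_of_left {φ : TW p 1 k →+ TW p 1 k} (hφ : Std 1 φ) :
    ∃ ψ : TW p 1 k →+ TW p 1 k, IsPoly ψ ∧ ∃ B : TW p 1 k → TW p 1 k, IsPoly B ∧ B 0 = 0 ∧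
      ∀ x y, φ (zc x y) = zc (ψ x) (ψ y) + dd B x y := by
  induction hφ with
  | gen i j c =>
    rcases i with _ | i
    · obtain ⟨b, hb⟩ := IsAlgClosed.exists_pow_nat_eq (c0 c) hp.out.pos
      refine ⟨gen 1 0 j (sc b), isPoly_gen _ _ _, fun _ => 0, isPoly_const 0, rfl, fun x y => c0_injective ?_⟩
      have hgen : ∀ (d v : TW p 1 k), c0 (gen 1 0 j d v) = c0 d * c0 v ^ p ^ j := fun d v => by
        show (d * FrI 1 j v).coeff 0 = _
        rw [coeff_mul_zero _ _ _ (by rfl), coeff_FrI]
        rfl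
      simp only [dd, add_zero, sub_zero]
      rw [hgen, c0_zc, c0_zc, hgen, hgen, c0_sc, ev_Cw_smul, hb]
      rw [ev_Cw_frob]
    · refine ⟨0, isPoly_const 0, fun _ => 0, isPoly_const 0, rfl, fun x y => ?_⟩
      rw [gen_succ]
      have : ∀ v : TW p 1 k, Vt 1 v = 0 := fun v => TruncatedWittVector.ext fun i => by
        rw [coeff_Vt, dif_neg (by omega), TruncatedWittVector.coeff_zero]
      rw [this]
      simp [dd, isCoc_zc.zero]
  | zero => exact ⟨0, isPoly_const 0, fun _ => 0, isPoly_const 0, rfl, fun x y => by simp [dd, isCoc_zc.zero]⟩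
  | add f g _ _ hf hg =>
    obtain ⟨ψ, hψ, B, hB, hB0, e⟩ := hf
    obtain ⟨ψ', hψ', B', hB', hB0', e'⟩ := hg
    refine ⟨ψ + ψ', hψ.add hψ', fun a => B a + B' a + zz 1 (ψ a) (ψ' a),
      (hB.add hB').add (isCoc_zz.poly.comp hψ hψ'), by simp [hB0, hB0', zz_zero], fun x y => ?_⟩
    rw [AddMonoidHom.add_apply, e, e', ← zz_one ((ψ + ψ') x), zz_add]
    simp only [dd, zz_one]
    abel

/-- The class restricted to the bottom layer. -/
theorem zc_shift (n : ℕ) (a b : TW p 1 k) :
    zc (WittGrp.shift p (Nat.le_add_left 1 n) a) (WittGrp.shift p (Nat.le_add_left 1 n) b) = zc a b := by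
  let s : TW p 2 k →+ TW p (n + 1 + 1) k := WittGrp.shift p (by omega)
  have hpad : ∀ v : TW p 1 k, pad (n + 1 + 1) (WittGrp.shift p (Nat.le_add_left 1 n) v) = s (pad 2 v) := fun v => by
    refine TruncatedWittVector.ext fun i => ?_
    simp only [s, pad, TruncatedWittVector.coeff_mk, WittGrp.coeff_shift]
    split_ifs <;> first | rfl | omega | (congr 1; ext; simp only; omega)
  have hC : ∀ c : TW p 1 k, s (WittGrp.shift p (Nat.le_add_left 1 1) c) =
      WittGrp.shift p (Nat.le_add_left 1 (n + 1)) c := fun c => by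
    refine TruncatedWittVector.ext fun i => ?_
    simp only [s, WittGrp.coeff_shift]
    split_ifs <;> first | rfl | omega | (congr 1; ext; simp only; omega)
  have h : pad 2 a + pad 2 b = pad 2 (a + b) + WittGrp.shift p (Nat.le_add_left 1 1) (zc a b) := by
    rw [zc, shift_tb, top, map_add, truncate_pad, truncate_pad, add_sub_cancel]
  rw [zc, hpad, hpad, ← map_add, h, map_add, hC, ← hpad, tb_add_shift, tb_pad, zero_add]

/-- A cocycle on the bottom layer. -/
theorem exists_bottom_class (n : ℕ) (c : TW p (n + 1) k → TW p (n + 1) k → TW p 1 k) (hc : IsCoc c) :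
    ∃ φ : TW p 1 k →+ TW p 1 k, IsPoly φ ∧ ∃ B : TW p (n + 1) k → TW p 1 k, IsPoly B ∧ B 0 = 0 ∧
      ∀ a b, c (WittGrp.shift p (Nat.le_add_left 1 n) a) (WittGrp.shift p (Nat.le_add_left 1 n) b) =
        φ (zc (WittGrp.shift p (Nat.le_add_left 1 n) a) (WittGrp.shift p (Nat.le_add_left 1 n) b)) +
          dd B (WittGrp.shift p (Nat.le_add_left 1 n) a) (WittGrp.shift p (Nat.le_add_left 1 n) b) := by
  let S : TW p 1 k →+ TW p (n + 1) k := WittGrp.shift p (Nat.le_add_left 1 n)
  have hS : IsPoly (S : TW p 1 k → TW p (n + 1) k) := isPoly_id.shift _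
  obtain ⟨G, hG⟩ := (hc.comap S hS).poly
  let q : MvPolynomial (Fin 2) k := G.coeff 0
  have hq : ∀ x y : TW p 1 k, ev (c0 x) (c0 y) q = c0 (c (S x) (S y)) := fun x y => by
    have := hG (pair x y)
    simp only [lft_pair, rgt_pair] at this
    rw [this]
    show _ = (evMap G (pair x y)).coeff 0
    rw [evMap, WittGrp.coeff_truncMap]
    refine congrArg (fun w => MvPolynomial.eval w q) (funext fun i => ?_)
    fin_cases i
    · show _ = (pair x y).coeff (Fin.castAdd 1 0)
      simp [pair]; rfl
    · show _ = (pair x y).coeff (Fin.natAdd 1 0)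
      simp [pair]; rfl
  obtain ⟨N, a, P, h⟩ := exists_decomp q
    (fun x => by
      have := hq (sc x) 0
      rwa [c0_sc, map_zero, (hc.comap S hS).zero, map_zero] at this)
    (fun x y => by
      have h1 := hq (sc x) (sc y)
      have h2 := hq (sc y) (sc x)
      rw [c0_sc, c0_sc] at h1 h2
      rw [h1, h2, hc.symm])
    (fun x y z => by
      have e : ∀ u w : k, ev u w q = c0 (c (S (sc u)) (S (sc w))) := fun u w => by rw [← hq, c0_sc, c0_sc]
      have hsc : ∀ u w : k, sc (p := p) (u + w) = sc u + sc w := fun u w => c0_injective (by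
        rw [map_add, c0_sc, c0_sc, c0_sc])
      rw [e, e, e, e, hsc, hsc, ← map_add c0, ← map_add c0, (hc.comap S hS).coc])
  let φ : TW p 1 k →+ TW p 1 k := ∑ e ∈ Finset.range N, gen 1 0 e (sc (a e))
  have hφ : ∀ v, c0 (φ v) = ∑ e ∈ Finset.range N, a e * c0 v ^ p ^ e := fun v => by
    simp only [φ, AddMonoidHom.finsetSum_apply, map_sum]
    refine Finset.sum_congr rfl fun e _ => ?_
    show (sc (a e) * FrI 1 e v).coeff 0 = _
    rw [coeff_mul_zero _ _ _ (by rfl), coeff_FrI]
    exact congrArg₂ (· * ·) (c0_sc (p := p) (a e)) rfl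
  refine ⟨φ, (Std.sum _ _ fun e _ => Std.gen _ _ _).isPoly,
    fun v => sc (P.eval (v.coeff (Fin.last n))),
    ⟨TruncatedWittVector.mk p fun _ => Polynomial.aeval (MvPolynomial.X (Fin.last n)) P,
      fun v => TruncatedWittVector.ext fun i => by
        simp only [evMap, WittGrp.coeff_truncMap, sc, TruncatedWittVector.coeff_mk]
        rw [Polynomial.aeval_def, Polynomial.hom_eval₂]
        simp only [crd, MvPolynomial.eval_X, MvPolynomial.algebraMap_eq]
        rw [show (MvPolynomial.eval (crd v)).comp MvPolynomial.C = RingHom.id k from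
          RingHom.ext fun r => MvPolynomial.eval_C r]
        rfl⟩,
    c0_injective ?_, fun x y => c0_injective ?_⟩
  · have h00 := h 0 0
    have h' := hq 0 0
    rw [map_zero, map_zero, hc.zero, map_zero] at h'
    have hz : ev (0 : k) 0 (Cw p k) = 0 := by
      have := c0_zc (p := p) (k := k) 0 0
      rwa [isCoc_zc.zero, map_zero, eq_comm] at this
    simp only [hz, zero_pow (pow_ne_zero _ hp.out.ne_zero), mul_zero, Finset.sum_const_zero, zero_add, add_zero] at h00
    rw [h'] at h00
    rw [c0_sc, map_zero, TruncatedWittVector.coeff_zero]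
    linear_combination -h00
  · have hlast : ∀ v : TW p 1 k, (S v).coeff (Fin.last n) = c0 v := fun v => by
      simp only [S, WittGrp.coeff_shift]
      rw [dif_pos (by simp)]
      exact congrArg (fun j => v.coeff j) (Fin.fin_one_eq_zero _)
    show c0 (c (S x) (S y)) = c0 (φ (zc (S x) (S y)) + dd _ (S x) (S y))
    rw [map_add c0, ← hq, h, hφ, show zc (S x) (S y) = zc x y from zc_shift n x y, c0_zc]
    simp only [dd, ← map_add S, hlast, map_sub, map_add c0, c0_sc]

/-- Classification of the extensions of `W_n` by `W_1`. -/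
theorem exists_class1 : ∀ (n : ℕ) (c : TW p (n + 1) k → TW p (n + 1) k → TW p 1 k), IsCoc c →
    ∃ φ : TW p 1 k →+ TW p 1 k, IsPoly φ ∧ ∃ B : TW p (n + 1) k → TW p 1 k, IsPoly B ∧ B 0 = 0 ∧
      ∀ x y, c x y = φ (zc x y) + dd B x y := by
  intro n
  induction n with
  | zero =>
    intro c hc
    obtain ⟨φ, hφ, B, hB, hB0, e⟩ := exists_bottom_class 0 c hc
    have hx : ∀ v : TW p (0 + 1) k, WittGrp.shift p (Nat.le_add_left 1 0) v = v := fun v =>
      TruncatedWittVector.ext fun i => by rw [WittGrp.coeff_shift, dif_pos (by simp)]; congr 1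
    exact ⟨φ, hφ, B, hB, hB0, fun x y => by simpa only [hx] using e x y⟩
  | succ n ih =>
    intro c hc
    obtain ⟨φ, hφ, B₁, hB₁, hB₁0, e₁⟩ := exists_bottom_class (n + 1) c hc
    let c₂ : TW p (n + 1 + 1) k → TW p (n + 1 + 1) k → TW p 1 k := fun x y => c x y - φ (zc x y) - dd B₁ x y
    have hc₂ : IsCoc c₂ := (hc.sub (isCoc_zc.map φ hφ)).sub (isCoc_dd hB₁ hB₁0)
    let sh : TW p 1 k →+ TW p (n + 1 + 1) k := WittGrp.shift p (Nat.le_add_left 1 (n + 1))
    have hbot : ∀ a b, c₂ (sh a) (sh b) = 0 := fun a b => by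
      show c _ _ - _ - _ = 0
      rw [e₁]
      abel
    let R : TW p (n + 1 + 1) k →+ TW p (n + 1) k :=
      (TruncatedWittVector.truncate (Nat.le_succ (n + 1))).toAddMonoidHom
    let σ : TW p (n + 1 + 1) k → TW p (n + 1 + 1) k := fun v => pad (n + 1 + 1) (R v)
    let b : TW p (n + 1 + 1) k → TW p 1 k := tb (n + 1)
    have hσ : ∀ v, σ v + sh (b v) = v := fun v => by
      show _ + WittGrp.shift p _ (tb (n + 1) v) = v
      rw [shift_tb]
      exact add_sub_cancel _ _
    have hR : ∀ a, R (sh a) = 0 := fun a => (lowZero_iff_truncate (Nat.le_succ (n + 1)) _).1 fun i hi => by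
      rw [WittGrp.coeff_shift, dif_neg (by omega)]
    let g : TW p (n + 1 + 1) k → TW p 1 k := fun v => c₂ (σ v) (sh (b v))
    have hRp : IsPoly (R : TW p (n + 1 + 1) k → TW p (n + 1) k) := isPoly_id.truncate (Nat.le_succ (n + 1))
    have hσp : IsPoly σ := isPoly_pad.comp hRp
    have hgp : IsPoly g := hc₂.poly.comp hσp (isPoly_tb.shift _)
    have hg : ∀ v a, g (v + sh a) = g v + c₂ v (sh a) := fun v a => by
      have h1 : σ (v + sh a) = σ v := by simp only [σ, map_add, hR, add_zero]
      have h2 : b (v + sh a) = b v + a := tb_add_shift v a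
      show c₂ (σ (v + sh a)) (sh (b (v + sh a))) = _
      rw [h1, h2, map_add]
      have h := hc₂.coc (σ v) (sh (b v)) (sh a)
      rw [hbot, zero_add, hσ] at h
      rw [h, add_comm]
    have hg0 : g 0 = 0 := by
      show c₂ (σ 0) (sh (b 0)) = 0
      have : b 0 = 0 := shift_injective (Nat.le_add_left 1 (n + 1)) (by
        show WittGrp.shift p _ (tb (n + 1) 0) = _
        rw [shift_tb, top_zero, map_zero])
      rw [this, map_zero, hc₂.zero]
    let c₃ : TW p (n + 1 + 1) k → TW p (n + 1 + 1) k → TW p 1 k := fun x y => c₂ x y + dd g x y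
    have hc₃ : IsCoc c₃ := hc₂.add (isCoc_dd hgp hg0)
    have hinv : ∀ x y a, c₃ (x + sh a) y = c₃ x y := fun x y a => by
      simp only [c₃, dd, add_right_comm x (sh a) y, hg]
      have h1 := hc₂.coc x (sh a) y
      have h2 := hc₂.coc x y (sh a)
      rw [eq_sub_of_add_eq h1.symm, eq_sub_of_add_eq h2.symm, hc₂.symm y (sh a), add_comm (sh a) y]
      abel
    have hred : ∀ x y, c₃ x y = c₃ (σ x) (σ y) := fun x y => by
      conv_lhs => rw [← hσ x, hinv, hc₃.symm, ← hσ y, hinv, hc₃.symm]
    have hσR : ∀ x y, R x = R y → σ x = σ y := fun x y h => by simp only [σ, h]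
    let c' : TW p (n + 1) k → TW p (n + 1) k → TW p 1 k := fun u w =>
      c₃ (pad (n + 1 + 1) u) (pad (n + 1 + 1) w)
    have hpad : ∀ u : TW p (n + 1) k, R (pad (n + 1 + 1) u) = u := fun u => truncate_pad (Nat.le_succ (n + 1)) u
    have hadd : ∀ u w z : TW p (n + 1) k, c₃ (pad (n + 1 + 1) u + pad (n + 1 + 1) w) (pad (n + 1 + 1) z) =
        c₃ (pad (n + 1 + 1) (u + w)) (pad (n + 1 + 1) z) := fun u w z => by
      rw [hred, hred (pad (n + 1 + 1) (u + w))]
      congr 1
      exact hσR _ _ (by rw [map_add, hpad, hpad, hpad])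
    have hc' : IsCoc c' := by
      clear_value c₃
      refine ⟨hc₃.poly.comp₂ (φ := pad (n + 1 + 1)) isPoly_pad, fun u => ?_, fun u w => hc₃.symm _ _, fun u w z => ?_⟩
      · show c₃ (pad (n + 1 + 1) u) (pad (n + 1 + 1) 0) = 0
        rw [pad_zero, hc₃.zero]
      · show c₃ (pad (n + 1 + 1) w) (pad (n + 1 + 1) z) + c₃ (pad (n + 1 + 1) u) (pad (n + 1 + 1) (w + z)) =
          c₃ (pad (n + 1 + 1) (u + w)) (pad (n + 1 + 1) z) + c₃ (pad (n + 1 + 1) u) (pad (n + 1 + 1) w)
        rw [← hadd u w z, hc₃.symm (pad (n + 1 + 1) (w + z)) (pad (n + 1 + 1) u), ← hadd w z u,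
          hc₃.symm (pad (n + 1 + 1) u) (pad (n + 1 + 1) w + pad (n + 1 + 1) z)]
        exact hc₃.coc _ _ _
    obtain ⟨φ', hφ', B', hB', hB'0, e'⟩ := ih c' hc'
    have he : ∀ x y, c₃ x y = φ' (zc (R x) (R y)) + dd B' (R x) (R y) := fun x y => (hred x y).trans (e' _ _)
    refine ⟨φ, hφ, fun v => B₁ v - g v - φ' (tb (n + 1) v) + B' (R v),
      ((hB₁.sub hgp).sub (hφ'.comp isPoly_tb)).add (hB'.comp hRp), ?_, fun x y => ?_⟩
    · show B₁ 0 - g 0 - φ' (tb (n + 1) 0) + B' (R 0) = 0
      rw [hB₁0, hg0, map_zero R, hB'0, show tb (n + 1) (0 : TW p (n + 1 + 1) k) = 0 from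
        shift_injective (Nat.le_add_left 1 (n + 1)) (by rw [shift_tb, top_zero, map_zero]), map_zero]
      simp
    · have h3 : c x y - φ (zc x y) - dd B₁ x y + dd g x y = φ' (zc (R x) (R y)) + dd B' (R x) (R y) := he x y
      have hz : φ' (tb (n + 1) (x + y)) = φ' (tb (n + 1) x) + φ' (tb (n + 1) y) + φ' (zc (R x) (R y)) := by
        rw [← map_add φ', ← map_add φ']
        exact congrArg φ' (tb_add x y)
      simp only [dd, map_add R] at h3 ⊢
      rw [hz]
      linear_combination (norm := abel) h3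

/-- Classification of the extensions of `W_1` by `W_n`. -/
theorem exists_class2 : ∀ (n : ℕ) (c : TW p 1 k → TW p 1 k → TW p n k), IsCoc c →
    ∃ ψ : TW p 1 k →+ TW p 1 k, IsPoly ψ ∧ ∃ B : TW p 1 k → TW p n k, IsPoly B ∧ B 0 = 0 ∧
      ∀ x y, c x y = zz n (ψ x) (ψ y) + dd B x y := by
  intro n
  induction n with
  | zero =>
    exact fun c _ => ⟨0, isPoly_const 0, fun _ => 0, isPoly_const 0, rfl,
      fun x y => TruncatedWittVector.ext fun i => i.elim0⟩
  | succ n ih =>
    intro c hc
    let R : TW p (n + 1) k →+ TW p n k := (TruncatedWittVector.truncate (Nat.le_succ n)).toAddMonoidHom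
    have hR : IsPoly (R : TW p (n + 1) k → TW p n k) := isPoly_id.truncate (Nat.le_succ n)
    obtain ⟨ψ, hψ, B, hB, hB0, e⟩ := ih _ (hc.map R hR)
    let c₁ : TW p 1 k → TW p 1 k → TW p (n + 1) k :=
      fun x y => c x y - zz (n + 1) (ψ x) (ψ y) - dd (fun a => pad (n + 1) (B a)) x y
    have hc₁ : IsCoc c₁ := (hc.sub (isCoc_zz.comap ψ hψ)).sub
      (isCoc_dd (isPoly_pad.comp hB) (by simp [hB0, pad_zero]))
    have hlow : ∀ x y, LowZero (n + 1 - 1) (c₁ x y) := fun x y => by
      rw [Nat.add_sub_cancel, lowZero_iff_truncate (Nat.le_succ n)]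
      show R (c x y - _ - _) = 0
      simp only [dd, map_sub, map_add, e]
      have eR : ∀ v, R v = TruncatedWittVector.truncate (Nat.le_succ n) v := fun _ => rfl
      simp only [eR, truncate_zz, truncate_pad]
      abel
    let s : TW p 1 k →+ TW p (n + 1) k := WittGrp.shift p (Nat.le_add_left 1 n)
    let d : TW p 1 k → TW p 1 k → TW p 1 k := fun x y => tail (Nat.le_add_left 1 n) (c₁ x y)
    have hs : ∀ x y, s (d x y) = c₁ x y := fun x y => shift_tail _ (hlow x y)
    have hinj : Function.Injective s := shift_injective _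
    have hd : IsCoc d :=
      { poly := (isPoly_tail _).comp hc₁.poly
        zero := fun x => hinj (by rw [hs, hc₁.zero, map_zero])
        symm := fun x y => hinj (by rw [hs, hs, hc₁.symm])
        coc := fun x y z => hinj (by rw [map_add, map_add, hs, hs, hs, hs, hc₁.coc]) }
    obtain ⟨φ, hφ, B₁, hB₁, hB₁0, e₁⟩ := exists_class1 0 d hd
    obtain ⟨ψ', hψ', B₂, hB₂, hB₂0, e₂⟩ := exists_right_of_left (std_of_endo 1 φ hφ)
    have hcs : ∀ x y, c x y = zz (n + 1) (ψ x) (ψ y) + s (zc (ψ' x) (ψ' y)) +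
        dd (fun a => pad (n + 1) (B a) + s (B₁ a + B₂ a)) x y := fun x y => by
      have h := hs x y
      rw [e₁, e₂] at h
      simp only [c₁] at h
      rw [sub_sub, eq_sub_iff_add_eq] at h
      rw [← h]
      simp only [dd, map_add, map_sub]
      abel
    have hsp : IsPoly (fun a => pad (n + 1) (B a) + s (B₁ a + B₂ a)) :=
      (isPoly_pad.comp hB).add ((hB₁.add hB₂).shift _)
    rcases Nat.eq_zero_or_pos n with rfl | hn
    · have hid : ∀ v : TW p 1 k, s v = v := fun v => TruncatedWittVector.ext fun i => by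
        simp only [s, WittGrp.coeff_shift]
        rw [dif_pos (by simp)]
        congr 1
      refine ⟨ψ + ψ', hψ.add hψ', fun a => pad 1 (B a) + s (B₁ a + B₂ a) + zz 1 (ψ a) (ψ' a),
        hsp.add (isCoc_zz.poly.comp hψ hψ'), by simp [hB0, hB₁0, hB₂0, pad_zero, zz_zero], fun x y => ?_⟩
      rw [zz_add, hcs, hid, ← zz_one]
      simp only [dd]
      abel
    · let w : TW p 1 k → TW p (n + 1) k := fun a => WittGrp.shift p (show 2 ≤ n + 1 by omega) (pad 2 (ψ' a))
      have hw : ∀ x y, s (zc (ψ' x) (ψ' y)) = dd w x y := fun x y => by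
        simp only [dd, w, map_add ψ']
        rw [← map_add, ← map_sub]
        have h1 : pad 2 (ψ' x) + pad 2 (ψ' y) - pad 2 (ψ' x + ψ' y) =
            WittGrp.shift p (Nat.le_add_left 1 1) (zc (ψ' x) (ψ' y)) := by
          rw [← shift_zz (n := 1)]
          rfl
        rw [h1]
        refine TruncatedWittVector.ext fun i => ?_
        simp only [s, WittGrp.coeff_shift]
        split_ifs <;> first | rfl | omega | (congr 1; ext; simp only; omega)
      refine ⟨ψ, hψ, fun a => pad (n + 1) (B a) + s (B₁ a + B₂ a) + w a,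
        hsp.add ((isPoly_pad.comp hψ').shift _), ?_, fun x y => ?_⟩
      · simp [w, hB0, hB₁0, hB₂0, pad_zero]
      · rw [hcs, hw]
        simp only [dd]
        abel

end Groth.Agent.WittExt
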