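import Groth.Agent.GaSplit.Main
import Groth.Agent.WittHom.Hom
import Mathlib.Algebra.DualNumber
import Mathlib.Algebra.MvPolynomial.Expand

/-!
# Symmetric additive polynomial cocycles on the additive group
-/

set_option autoImplicit false
universe u

noncomputable section

namespace Groth.Agent.WittExt

open MvPolynomial Groth.Agent.GaSplit
open Groth.Agent.WittHom (TW)

variable {k : Type u} [Field k]

/-- Value of a two variable polynomial. -/
def ev (x y : k) : MvPolynomial (Fin 2) k →+* k := eval ![x, y]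

theorem eval_at2 {σ : Type} (v : σ → k) (a b : MvPolynomial σ k) (c : MvPolynomial (Fin 2) k) :
    eval v (at2 a b c) = ev (eval v a) (eval v b) c := by
  refine congr($(MvPolynomial.ringHom_ext (f := (eval v).comp (at2 a b).toRingHom)
    (g := ev (eval v a) (eval v b)) (fun r => ?_) fun i => ?_) c)
  · simp [at2, ev]
  · fin_cases i <;> simp [at2, ev]

variable [Infinite k]

/-- The polynomial of a symmetric cocycle function satisfies the relations. -/
theorem rel_of_eval {c : MvPolynomial (Fin 2) k} (h0 : ∀ x, ev x 0 c = 0) (hs : ∀ x y, ev y x c = ev x y c)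
    (hc : ∀ x y z, ev y z c + ev x (y + z) c = ev (x + y) z c + ev x y c) : Rel c := by
  classical
  have e0 : at2 (MvPolynomial.X 0 : MvPolynomial (Fin 2) k) 0 c = 0 := MvPolynomial.funext fun v => by
    rw [eval_at2, eval_X, map_zero, h0]
  have es : at2 (MvPolynomial.X 1 : MvPolynomial (Fin 2) k) (MvPolynomial.X 0) c = c := MvPolynomial.funext fun v => by
    rw [eval_at2, eval_X, eval_X, hs]
    exact congrArg (fun w => eval w c) (funext fun i => by fin_cases i <;> rfl)
  have ec : at2 (MvPolynomial.X 1 : MvPolynomial (Fin 3) k) (MvPolynomial.X 2) c +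
      at2 (MvPolynomial.X 0 : MvPolynomial (Fin 3) k) (MvPolynomial.X 1 + MvPolynomial.X 2) c =
      at2 (MvPolynomial.X 0 + MvPolynomial.X 1 : MvPolynomial (Fin 3) k) (MvPolynomial.X 2) c +
        at2 (MvPolynomial.X 0 : MvPolynomial (Fin 3) k) (MvPolynomial.X 1) c := MvPolynomial.funext fun v => by
    simp only [map_add, eval_at2, eval_X, hc]
  let ι : k →+* DualNumber k := TrivSqZeroExt.inlHom k k
  let J : Ideal (DualNumber k) := Ideal.span {DualNumber.eps}
  have hJ : J * J = ⊥ := by
    rw [Ideal.span_singleton_mul_span_singleton, DualNumber.eps_mul_eps, Ideal.span_singleton_zero]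
  let c' : MvPolynomial (Fin 2) (DualNumber k) := C DualNumber.eps * MvPolynomial.map ι c
  have hc' : c' ∈ J.map C :=
    Ideal.mul_mem_right _ _ (Ideal.mem_map_of_mem _ (Ideal.subset_span rfl))
  have hat : ∀ {σ : Type} (a b : MvPolynomial σ k), at2 (MvPolynomial.map ι a) (MvPolynomial.map ι b) (1 + c') =
      1 + C DualNumber.eps * MvPolynomial.map ι (at2 a b c) := fun a b => by
    rw [map_add, map_one, map_mul, map_at2]
    simp [at2]
  have hgood : Good (1 + c') := by
    refine ⟨?_, ?_, ?_⟩
    · have h := hat (MvPolynomial.X 0 : MvPolynomial (Fin 2) k) 0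
      rwa [e0, map_zero, mul_zero, add_zero, MvPolynomial.map_X] at h
    · have h := hat (MvPolynomial.X 1 : MvPolynomial (Fin 2) k) (MvPolynomial.X 0)
      rwa [es, MvPolynomial.map_X, MvPolynomial.map_X] at h
    · have h1 := hat (MvPolynomial.X 1 : MvPolynomial (Fin 3) k) (MvPolynomial.X 2)
      have h2 := hat (MvPolynomial.X 0 : MvPolynomial (Fin 3) k) (MvPolynomial.X 1 + MvPolynomial.X 2)
      have h3 := hat (MvPolynomial.X 0 + MvPolynomial.X 1 : MvPolynomial (Fin 3) k) (MvPolynomial.X 2)
      have h4 := hat (MvPolynomial.X 0 : MvPolynomial (Fin 3) k) (MvPolynomial.X 1)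
      simp only [map_add, MvPolynomial.map_X] at h1 h2 h3 h4
      simp only [map_add]
      rw [h1, h2, h3, h4]
      have he : (C DualNumber.eps : MvPolynomial (Fin 3) (DualNumber k)) * C DualNumber.eps = 0 := by
        rw [← map_mul, DualNumber.eps_mul_eps, map_zero]
      have h5 := congrArg (MvPolynomial.map ι) ec
      rw [map_add, map_add] at h5
      linear_combination C DualNumber.eps * h5 +
        (MvPolynomial.map ι (at2 (MvPolynomial.X 1) (MvPolynomial.X 2) c) *
            MvPolynomial.map ι (at2 (MvPolynomial.X 0) (MvPolynomial.X 1 + MvPolynomial.X 2) c) -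
          MvPolynomial.map ι (at2 (MvPolynomial.X 0 + MvPolynomial.X 1) (MvPolynomial.X 2) c) *
            MvPolynomial.map ι (at2 (MvPolynomial.X 0) (MvPolynomial.X 1) c)) * he
  have hr := Good.rel hJ hc' hgood
  have hco : ∀ i j, co c' i j = DualNumber.eps * ι (co c i j) := fun i j => by
    rw [co_C_mul]
    exact congrArg _ (coeff_map _ _ _)
  have hsnd : ∀ a : k, ((DualNumber.eps : DualNumber k) * ι a).snd = a := fun a => by
    simp [ι]
  refine ⟨fun i => ?_, fun i j => ?_, fun i j l hi hj hl => ?_⟩
  · have h := congrArg TrivSqZeroExt.snd (hr.zero i)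
    rwa [hco, hsnd, TrivSqZeroExt.snd_zero] at h
  · have h := congrArg TrivSqZeroExt.snd (hr.symm i j)
    rwa [hco, hco, hsnd, hsnd] at h
  · have h := congrArg TrivSqZeroExt.snd (hr.rel i j l hi hj hl)
    rw [hco, hco, ← map_natCast ι, ← map_natCast ι, mul_left_comm, ← map_mul, mul_left_comm, ← map_mul, hsnd,
      hsnd] at h
    exact h

variable {p : ℕ} [hp : Fact p.Prime]

/-- The Witt cocycle as a polynomial. -/
def Cw (p : ℕ) [Fact p.Prime] (k : Type u) [Field k] : MvPolynomial (Fin 2) k :=
  ((TruncatedWittVector.mk p fun i : Fin 2 => if (i : ℕ) = 0 then MvPolynomial.X 0 else 0 :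
      TruncatedWittVector p 2 (MvPolynomial (Fin 2) k)) +
    TruncatedWittVector.mk p fun i : Fin 2 => if (i : ℕ) = 0 then MvPolynomial.X 1 else 0).coeff 1

/-- A vector with only the first component. -/
def hd (p : ℕ) [Fact p.Prime] (n : ℕ) {k : Type u} [Field k] (t : k) : TW p n k :=
  TruncatedWittVector.mk p fun i => if (i : ℕ) = 0 then t else 0

theorem coeff_hd (n : ℕ) (t : k) (i : Fin n) : (hd p n t).coeff i = if (i : ℕ) = 0 then t else 0 :=
  TruncatedWittVector.coeff_mk _ _

theorem ev_Cw (x y : k) : ev x y (Cw p k) = (hd p 2 x + hd p 2 y).coeff 1 := by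
  rw [Cw, ← WittGrp.coeff_truncMap, map_add]
  congr 2
  all_goals
    refine TruncatedWittVector.ext fun i => ?_
    rw [WittGrp.coeff_truncMap, TruncatedWittVector.coeff_mk, coeff_hd]
    split_ifs <;> simp [ev]

theorem hd_zero (n : ℕ) : hd p n (0 : k) = 0 :=
  TruncatedWittVector.ext fun i => by rw [coeff_hd, ite_self, TruncatedWittVector.coeff_zero]

theorem hd_add_split (x y : k) : hd p 2 x + hd p 2 y = hd p 2 (x + y) +
    TruncatedWittVector.mk p (fun i : Fin 2 => if (i : ℕ) = 0 then 0 else ev x y (Cw p k)) := by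
  have key : ∀ {R : Type u} [CommRing R] (a c : R),
      (TruncatedWittVector.mk p fun i : Fin 2 => if (i : ℕ) = 0 then a else 0) +
        (TruncatedWittVector.mk p fun i : Fin 2 => if (i : ℕ) = 0 then 0 else c) =
      TruncatedWittVector.mk p fun i : Fin 2 => if (i : ℕ) = 0 then a else c := by
    intro R _ a c
    obtain ⟨s, hs⟩ : ∃ s, s = ((TruncatedWittVector.mk p fun i : Fin 2 => if (i : ℕ) = 0 then a else 0) +
        (TruncatedWittVector.mk p fun i : Fin 2 => if (i : ℕ) = 0 then 0 else c)) := ⟨_, rfl⟩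
    rw [← hs]
    have hA : (TruncatedWittVector.mk p fun i : Fin 2 => if (i : ℕ) = 0 then a else 0) =
        WittVector.truncate 2 (WittVector.mk p fun j => if j = 0 then a else 0) :=
      TruncatedWittVector.ext fun i => by
        rw [WittVector.coeff_truncate, TruncatedWittVector.coeff_mk, WittVector.coeff_mk]
    have hB : (TruncatedWittVector.mk p fun i : Fin 2 => if (i : ℕ) = 0 then 0 else c) =
        WittVector.truncate 2 (WittVector.mk p fun j => if j = 0 then 0 else if j = 1 then c else 0) :=
      TruncatedWittVector.ext fun i => by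
        rw [WittVector.coeff_truncate, TruncatedWittVector.coeff_mk, WittVector.coeff_mk]
        fin_cases i <;> simp
    rw [hA, hB, ← map_add] at hs
    refine TruncatedWittVector.ext fun i => ?_
    rw [hs, WittVector.coeff_truncate, TruncatedWittVector.coeff_mk, WittVector.coeff_add_of_disjoint]
    · rw [WittVector.coeff_mk, WittVector.coeff_mk]
      fin_cases i <;> simp
    · intro j
      rw [WittVector.coeff_mk, WittVector.coeff_mk]
      by_cases hj : j = 0 <;> simp [hj]
  refine Eq.trans ?_ (key (x + y) (ev x y (Cw p k))).symm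
  refine TruncatedWittVector.ext fun i => ?_
  rw [TruncatedWittVector.coeff_mk]
  fin_cases i
  · rw [WittSub.coeff_add_zero _ _ _ rfl, coeff_hd, coeff_hd]; simp
  · simp [ev_Cw]

variable [CharP k p]

theorem hd_add_eq (x y : k) : hd p 2 x + hd p 2 y = hd p 2 (x + y) + WittHom.emb 1 (ev x y (Cw p k)) := by
  rw [hd_add_split]
  congr 1
  refine TruncatedWittVector.ext fun i => ?_
  rw [WittHom.coeff_emb, TruncatedWittVector.coeff_mk]
  fin_cases i <;> simp

theorem emb_injective (n : ℕ) : Function.Injective (WittHom.emb (p := p) (k := k) n) := fun s t h => by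
  have h' := congrArg (fun v : TW p (n + 1) k => v.coeff (Fin.last n)) h
  simpa [WittHom.coeff_emb] using h'

/-- The Witt cocycle satisfies the relations. -/
theorem rel_Cw : Rel (Cw p k) := by
  refine rel_of_eval (fun x => ?_) (fun x y => ?_) fun x y z => ?_
  · rw [ev_Cw, hd_zero, add_zero, coeff_hd, if_neg (by simp)]
  · rw [ev_Cw, ev_Cw, add_comm]
  · refine emb_injective (p := p) 1 (add_left_cancel (a := hd p 2 (x + y + z)) ?_)
    have e1 := hd_add_eq (p := p) x y
    have e2 := hd_add_eq (p := p) (x + y) z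
    have e3 := hd_add_eq (p := p) y z
    have e4 := hd_add_eq (p := p) x (y + z)
    rw [← add_assoc x] at e4
    rw [WittHom.emb_add, WittHom.emb_add]
    calc _ = hd p 2 x + hd p 2 y + hd p 2 z := by rw [add_assoc (hd p 2 x), e3, ← add_assoc (hd p 2 x), e4]; abel
      _ = _ := by rw [e1, add_right_comm, e2]; abel

theorem ev_Cw_smul (l x y : k) : ev (l * x) (l * y) (Cw p k) = l ^ p * ev x y (Cw p k) := by
  have hmul : ∀ t : k, hd p 2 l * hd p 2 t = hd p 2 (l * t) := fun t => by
    have e : ∀ s : k, hd p 2 s = WittVector.truncate 2 (WittVector.teichmuller p s) := fun s =>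
      TruncatedWittVector.ext fun i => by
        rw [coeff_hd, WittVector.coeff_truncate]
        rcases Nat.eq_zero_or_pos (i : ℕ) with h | h
        · rw [h, if_pos rfl, WittVector.teichmuller_coeff_zero]
        · rw [if_neg h.ne', WittVector.teichmuller_coeff_pos p s (i : ℕ) h]
    rw [e, e, e, ← map_mul, ← map_mul]
  refine emb_injective (p := p) 1 (add_left_cancel (a := hd p 2 (l * x + l * y)) ?_)
  rw [← hd_add_eq, ← hmul, ← hmul, ← mul_add, hd_add_eq, mul_add, hmul, mul_add, WittHom.mul_emb]
  congr 2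
  rw [coeff_hd, if_pos (by simp), pow_one]

theorem coeff_scale (l : k) (c : MvPolynomial (Fin 2) k) (i j : ℕ) :
    co (at2 (C l * MvPolynomial.X 0) (C l * MvPolynomial.X 1) c) i j = l ^ (i + j) * co c i j := by
  classical
  induction c using MvPolynomial.induction_on' with
  | monomial s r =>
    have h : at2 (C l * MvPolynomial.X 0) (C l * MvPolynomial.X 1) (monomial s r) =
        C (l ^ (s 0 + s 1)) * monomial s r := by
      have hs : s = Finsupp.single 0 (s 0) + Finsupp.single 1 (s 1) := by
        ext a; fin_cases a <;> simp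
      conv_lhs => rw [hs, monomial_two, map_mul, map_mul, map_pow, map_pow]
      conv_rhs => arg 2; rw [hs, monomial_two]
      simp [at2, mul_pow, pow_add]
      ring
    rw [h, co_C_mul]
    by_cases hij : Finsupp.single 0 i + Finsupp.single 1 j = s
    · subst hij; simp [co]
    · rw [co, coeff_monomial, if_neg (Ne.symm hij)]; simp
  | add a b ha hb => simp only [map_add, co, coeff_add] at ha hb ⊢; rw [ha, hb]; ring

theorem co_Cw_eq_zero {i j : ℕ} (h : i + j ≠ p) : co (Cw p k) i j = 0 := by
  have hl : ∀ l : k, (l ^ (i + j) - l ^ p) * co (Cw p k) i j = 0 := fun l => by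
    have e : at2 (C l * MvPolynomial.X 0) (C l * MvPolynomial.X 1) (Cw p k) = C (l ^ p) * Cw p k :=
      MvPolynomial.funext fun v => by
        rw [eval_at2, map_mul, map_mul, map_mul, eval_C, eval_X, eval_X, eval_C, ev_Cw_smul]
        exact congrArg (fun w => l ^ p * eval w (Cw p k)) (funext fun i => by fin_cases i <;> rfl)
    have := congrArg (fun q => co q i j) e
    simp only [coeff_scale, co_C_mul] at this
    rw [sub_mul, this, sub_self]
  by_contra hne
  have hP : (Polynomial.X ^ (i + j) - Polynomial.X ^ p : Polynomial k) = 0 := Polynomial.funext fun l => by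
    simpa using (mul_eq_zero.1 (hl l)).resolve_right hne
  have := congrArg (fun q => Polynomial.coeff q (i + j)) hP
  simp [Polynomial.coeff_X_pow, h] at this

variable [IsAlgClosed k]

/-- The leading coefficient of the Witt cocycle. -/
theorem co_Cw_ne_zero : co (Cw p k) 1 (p - 1) ≠ 0 := fun h0 => by
  letI := (ZMod.castHom (dvd_refl p) k).toModule
  have hz : ∀ i, 1 ≤ i → i < p ^ 0 * p → co (Cw p k) i (p ^ 0 * p - i) = 0 :=
    IsCocycle.eq_zero (p := p) (v := 0) (m := p) hp.out.two_le (Or.inr rfl)
      (isCocycle_of_rel (ZMod.castHom (dvd_refl p) k) rel_Cw _) (by simpa using h0)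
  have hC : Cw p k = 0 := co_ext fun i j => by
    rw [show co (0 : MvPolynomial (Fin 2) k) i j = 0 from coeff_zero _]
    by_cases h : i + j = p
    · rcases Nat.eq_zero_or_pos i with rfl | hi
      · exact rel_Cw.co_zero_left j
      rcases Nat.eq_zero_or_pos j with rfl | hj
      · exact rel_Cw.zero i
      have := hz i hi (by simp; omega)
      rwa [show p ^ 0 * p - i = j by simp; omega] at this
    · exact co_Cw_eq_zero h
  have hadd : ∀ x y : k, hd p 2 x + hd p 2 y = hd p 2 (x + y) := fun x y => by
    rw [hd_add_eq, hC, map_zero, show WittHom.emb (p := p) 1 (0 : k) = 0 from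
      TruncatedWittVector.ext fun i => by simp [WittHom.coeff_emb], add_zero]
  have hmul : ∀ m : ℕ, m • hd p 2 (1 : k) = hd p 2 (m : k) := fun m => by
    induction m with
    | zero => rw [zero_smul, Nat.cast_zero, hd_zero]
    | succ m ih => rw [succ_nsmul, ih, hadd, Nat.cast_succ]
  refine WittHom.pow_smul_ne_zero (p := p) (n := 1) (hd p 2 (1 : k)) ?_ ?_
  · rw [coeff_hd, if_pos (by simp)]; exact one_ne_zero
  · rw [pow_one, hmul, CharP.cast_eq_zero, hd_zero]

/-- The twists of the Witt cocycle by powers of Frobenius. -/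
def Dw (p : ℕ) [Fact p.Prime] (k : Type u) [Field k] [CharP k p] (e : ℕ) : MvPolynomial (Fin 2) k :=
  MvPolynomial.map (iterateFrobenius k p e) (expand (p ^ e) (Cw p k))

omit [Infinite k] [IsAlgClosed k] in
theorem ev_Dw (e : ℕ) (x y : k) : ev x y (Dw p k e) = ev x y (Cw p k) ^ p ^ e := by
  refine (congr($(MvPolynomial.ringHom_ext
    (f := ((ev x y).comp (MvPolynomial.map (iterateFrobenius k p e))).comp (expand (p ^ e)).toRingHom)
    (g := (iterateFrobenius k p e).comp (ev x y)) (fun r => ?_) fun i => ?_) (Cw p k))).trans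
      (iterateFrobenius_def p e _)
  · simp [ev]
  · simp [ev, iterateFrobenius_def]

theorem rel_Dw (e : ℕ) : Rel (Dw p k e) := by
  refine rel_of_eval (fun x => ?_) (fun x y => ?_) fun x y z => ?_
  · rw [ev_Dw, ev_Cw, hd_zero, add_zero, coeff_hd, if_neg (by simp), zero_pow (pow_ne_zero _ hp.out.ne_zero)]
  · rw [ev_Dw, ev_Dw, ev_Cw, ev_Cw, add_comm]
  · simp only [ev_Dw, ← add_pow_char_pow]
    congr 1
    refine emb_injective (p := p) 1 (add_left_cancel (a := hd p 2 (x + y + z)) ?_)
    rw [WittHom.emb_add, WittHom.emb_add]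
    have e3 := hd_add_eq (p := p) y z
    have e4 := hd_add_eq (p := p) x (y + z)
    rw [← add_assoc x] at e4
    calc _ = hd p 2 x + hd p 2 y + hd p 2 z := by rw [add_assoc (hd p 2 x), e3, ← add_assoc (hd p 2 x), e4]; abel
      _ = _ := by rw [hd_add_eq, add_right_comm, hd_add_eq]; abel

theorem co_Dw_mul (e i j : ℕ) : co (Dw p k e) (p ^ e * i) (p ^ e * j) = co (Cw p k) i j ^ p ^ e := by
  rw [Dw, co, coeff_map, iterateFrobenius_def, co]
  congr 1
  rw [← coeff_expand_smul (p := p ^ e) (pow_ne_zero _ hp.out.ne_zero) (Cw p k)]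
  congr 1
  simp [smul_add, Finsupp.smul_single]

theorem co_Dw_eq_zero {e i j : ℕ} (h : i + j ≠ p ^ e * p) : co (Dw p k e) i j = 0 := by
  by_cases hi : p ^ e ∣ i
  · by_cases hj : p ^ e ∣ j
    · obtain ⟨a, rfl⟩ := hi
      obtain ⟨b, rfl⟩ := hj
      rw [co_Dw_mul, co_Cw_eq_zero (fun hab => h (by rw [← Nat.mul_add, hab])),
        zero_pow (pow_ne_zero _ hp.out.ne_zero)]
    · rw [Dw, co, coeff_map, coeff_expand_of_not_dvd (i := 1) (h := by simpa using hj), map_zero]
  · rw [Dw, co, coeff_map, coeff_expand_of_not_dvd (i := 0) (h := by simpa using hi), map_zero]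

/-- Being a combination of twists of the Witt cocycle up to a coboundary. -/
def InSpan (p : ℕ) [Fact p.Prime] {k : Type u} [Field k] (c : MvPolynomial (Fin 2) k) : Prop :=
  ∃ (N : ℕ) (a : ℕ → k) (P : Polynomial k), ∀ x y, ev x y c =
    ∑ e ∈ Finset.range N, a e * ev x y (Cw p k) ^ p ^ e + (P.eval x + P.eval y - P.eval (x + y))

omit [Infinite k] [CharP k p] [IsAlgClosed k] in
theorem InSpan.add {c d : MvPolynomial (Fin 2) k} (hc : InSpan p c) (hd : InSpan p d) : InSpan p (c + d) := by
  obtain ⟨N, a, P, h⟩ := hc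
  obtain ⟨M, b, Q, h'⟩ := hd
  refine ⟨max N M, fun e => (if e < N then a e else 0) + (if e < M then b e else 0), P + Q, fun x y => ?_⟩
  have key : ∀ (N' : ℕ) (f : ℕ → k), N' ≤ max N M →
      ∑ e ∈ Finset.range (max N M), (if e < N' then f e else 0) * ev x y (Cw p k) ^ p ^ e =
        ∑ e ∈ Finset.range N', f e * ev x y (Cw p k) ^ p ^ e := fun N' f hN => by
    rw [← Finset.sum_subset (Finset.range_mono hN) fun e _ he => by
      rw [if_neg (by simpa using he), zero_mul]]
    exact Finset.sum_congr rfl fun e he => by rw [if_pos (Finset.mem_range.1 he)]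
  simp only [map_add, h, h', add_mul, Finset.sum_add_distrib, key N a (le_max_left _ _),
    key M b (le_max_right _ _), Polynomial.eval_add]
  ring

/-- The classification of symmetric cocycles on the additive group. -/
theorem inSpan_of_rel : ∀ (N : ℕ) (c : MvPolynomial (Fin 2) k), Rel c → (∀ i j, N ≤ i + j → co c i j = 0) →
    InSpan p c
  | 0, c, _, hN => by
    refine ⟨0, 0, 0, fun x y => ?_⟩
    rw [show c = 0 from co_ext fun i j => (hN i j (Nat.zero_le _)).trans (coeff_zero _).symm, map_zero]
    simp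
  | N + 1, c, hr, hN => by
    classical
    suffices h : ∃ d, InSpan p d ∧ Rel d ∧ ∀ i j, N ≤ i + j → co d i j = co c i j by
      obtain ⟨d, hd, hdr, hco⟩ := h
      have := (inSpan_of_rel N (c - d) (hr.sub hdr) fun i j hij => by rw [co_sub, hco i j hij, sub_self]).add hd
      rwa [sub_add_cancel] at this
    by_cases hz : ∀ i j, i + j = N → co c i j = 0
    · refine ⟨0, ⟨0, 0, 0, fun x y => by simp⟩, ⟨fun i => coeff_zero _, fun i j => by simp [co], fun i j l _ _ _ => by simp [co]⟩,
        fun i j hij => ?_⟩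
      rcases hij.lt_or_eq with h | h
      · rw [hN i j h]; exact coeff_zero _
      · rw [hz i j h.symm]; exact coeff_zero _
    letI := (ZMod.castHom (dvd_refl p) k).toModule
    have hφ := isCocycle_of_rel (ZMod.castHom (dvd_refl p) k) hr N
    have hN1 : N ≠ 0 := fun h => hz fun i j hij => by
      obtain ⟨rfl, rfl⟩ : i = 0 ∧ j = 0 := by omega
      exact hr.zero 0
    suffices h : ∃ d, InSpan p d ∧ Rel d ∧ (∀ i j, 1 ≤ i → 1 ≤ j → i + j = N → co d i j = co c i j) ∧
        ∀ i j, i + j ≠ N → co d i j = 0 by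
      obtain ⟨d, hd, hdr, h1, h2⟩ := h
      refine ⟨d, hd, hdr, fun i j hij => ?_⟩
      rcases hij.lt_or_eq with h | h
      · rw [hN i j h, h2 i j (by omega)]
      rcases Nat.eq_zero_or_pos i with rfl | hi
      · rw [hdr.co_zero_left, hr.co_zero_left]
      rcases Nat.eq_zero_or_pos j with rfl | hj
      · rw [hdr.zero, hr.zero]
      exact h1 i j hi hj h.symm
    by_cases hp' : ∃ e, N = p ^ e
    · obtain ⟨e, rfl⟩ := hp'
      rcases e with _ | e
      · refine absurd (fun i j hij => ?_) hz
        rw [pow_zero] at hij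
        rcases Nat.eq_zero_or_pos i with rfl | hi
        · exact hr.co_zero_left j
        obtain rfl : j = 0 := by omega
        exact hr.zero i
      have hq : p ^ (e + 1) = p ^ e * p := pow_succ p e
      have hDr : Rel (Dw p k e) := rel_Dw e
      let a := co c (p ^ e) (p ^ (e + 1) - p ^ e) / co (Dw p k e) (p ^ e) (p ^ (e + 1) - p ^ e)
      have hne : co (Dw p k e) (p ^ e) (p ^ (e + 1) - p ^ e) ≠ 0 := by
        have h := co_Dw_mul (p := p) (k := k) e 1 (p - 1)
        rw [mul_one, Nat.mul_sub, mul_one, ← hq] at h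
        rw [h]
        exact pow_ne_zero _ co_Cw_ne_zero
      have hd : Rel (C a * Dw p k e) :=
        ⟨fun i => by rw [co_C_mul, hDr.zero, mul_zero], fun i j => by rw [co_C_mul, co_C_mul, hDr.symm],
          fun i j l hi hj hl => by rw [co_C_mul, co_C_mul, mul_left_comm, hDr.rel i j l hi hj hl, mul_left_comm]⟩
      refine ⟨C a * Dw p k e, ⟨e + 1, fun i => if i = e then a else 0, 0, fun x y => ?_⟩, hd,
        fun i j hi hj hij => ?_, fun i j hij => by rw [co_C_mul, co_Dw_eq_zero (hq ▸ hij), mul_zero]⟩
      · rw [map_mul, ev_Dw, Finset.sum_eq_single_of_mem e (Finset.self_mem_range_succ e)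
          fun b _ hb => by simp [hb]]
        simp [ev]
      · have h := IsCocycle.eq_zero (p := p) (v := e) (m := p) hp.out.two_le (Or.inr rfl)
          (φ := fun i => co c i (p ^ e * p - i) - co (C a * Dw p k e) i (p ^ e * p - i))
          ((isCocycle_of_rel (ZMod.castHom (dvd_refl p) k) hr _).sub
            (isCocycle_of_rel (ZMod.castHom (dvd_refl p) k) hd _))
          (by show co c _ _ - co (C a * Dw p k e) _ _ = 0
              rw [← hq, co_C_mul, div_mul_cancel₀ _ hne, sub_self]) i hi (by omega)
        rw [show j = p ^ e * p - i by omega]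
        exact (sub_eq_zero.1 h).symm
    · obtain ⟨v, t, hd, ht, hφ'⟩ := hφ.exists_coboundary hN1 fun e h => hp' ⟨e, h⟩
      obtain ⟨a, ha⟩ : ∃ a : k, a =
          ((ZMod.castHom (dvd_refl p) k) ((t : ZMod p)⁻¹)) * co c (p ^ v) (N - p ^ v) := ⟨_, rfl⟩
      have hev : ∀ x y : k, ev x y (C a * delta N) = a * ((x + y) ^ N - x ^ N - y ^ N) := fun x y => by
        simp [delta, ev]
      have hdr : Rel (C a * delta N) := by
        refine rel_of_eval (fun x => ?_) (fun x y => ?_) fun x y z => ?_
        · rw [hev, add_zero, zero_pow hN1]; ring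
        · rw [hev, hev, add_comm]; ring
        · rw [hev, hev, hev, hev, add_assoc]; ring
      refine ⟨C a * delta N, ⟨0, 0, -(Polynomial.C a * Polynomial.X ^ N), fun x y => ?_⟩, hdr,
        fun i j hi hj hij => ?_, fun i j hij => ?_⟩
      · rw [hev]; simp; ring
      · have := hφ' i hi (by omega)
        rw [co_C_mul, co_delta _ _ _ hi hj, if_pos hij, show j = N - i by omega]
        rw [this]
        show _ = (ZMod.castHom (dvd_refl p) k) _ * ((ZMod.castHom (dvd_refl p) k) _ * co c _ _)
        rw [← ha, map_natCast]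
        ring
      · rcases Nat.eq_zero_or_pos i with rfl | hi
        · exact hdr.co_zero_left j
        rcases Nat.eq_zero_or_pos j with rfl | hj
        · exact hdr.zero i
        rw [co_C_mul, co_delta _ _ _ hi hj, if_neg hij, mul_zero]

/-- The classification for the function of a polynomial. -/
theorem exists_decomp (c : MvPolynomial (Fin 2) k) (h0 : ∀ x, ev x 0 c = 0) (hs : ∀ x y, ev y x c = ev x y c)
    (hc : ∀ x y z, ev y z c + ev x (y + z) c = ev (x + y) z c + ev x y c) : InSpan p c :=
  inSpan_of_rel (c.totalDegree + 1) c (rel_of_eval h0 hs hc) fun i j hij =>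
    coeff_eq_zero_of_totalDegree_lt (by
      rw [← Finsupp.degree_apply, map_add, Finsupp.degree_single, Finsupp.degree_single]
      omega)

end Groth.Agent.WittExt
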